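import Groth.Agent.Lib.K0Sub.KerUnit
import Groth.Agent.Lib.K0Sub.Killed
import Groth.Agent.Lib.HodgeIndex.IdealMul
import Groth.Agent.Lib.BlowUp.StalkIdeal
import Groth.Agent.Lib.Euler.Rank
import Groth.Agent.Lib.FormalFun.LevelsFree

/-!
# Stalks of direct images from closed subschemes and of the units
-/

set_option autoImplicit false
set_option linter.style.haveILetI false

universe u

open CategoryTheory CategoryTheory.Limits AlgebraicGeometry TopologicalSpace Opposite

noncomputable section

namespace GrothLib.LeffAmp7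

open GrothLib.QCoh (stalkLin)
open GrothLib.InvExt (mres)

variable {X : Scheme.{u}}

/-- If sections killed by `φ` on affine opens are the multiples by the ideal, so are killed germs. -/
theorem ker_stalkLin_eq (J : X.IdealSheafData) {M N : X.Modules} (φ : M ⟶ N)
    (h : ∀ (U : X.affineOpens) (m : Γ(M, U.1)), φ.app U.1 m = 0 ↔
      m ∈ J.ideal U • (⊤ : Submodule Γ(X, U.1) Γ(M, U.1))) (x : X) :
    LinearMap.ker (stalkLin φ x) = Goodman.st J x • ⊤ := by
  refine le_antisymm (fun v hv => ?_) (Submodule.smul_le.2 fun r hr v _ => ?_)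
  · rw [LinearMap.mem_ker] at hv
    obtain ⟨O, hy, z, rfl⟩ := TopCat.Presheaf.exists_germ_eq M.presheaf v
    rw [QCoh.stalkLin_germ] at hv
    obtain ⟨W₀, hyW₀, i₁, i₂, he⟩ := TopCat.Presheaf.germ_eq N.presheaf x hy hy _ _
      (hv.trans (map_zero (N.presheaf.germ O x hy).hom).symm)
    obtain ⟨_, ⟨W, hW, rfl⟩, hyW, hWle⟩ :=
      X.isBasis_affineOpens.exists_subset_of_mem_open (show x ∈ W₀ from hyW₀) W₀.2
    have hWO : W ≤ O := fun w hw => i₁.le (hWle hw)
    have h0 : φ.app W (mres M hWO z) = 0 := by
      rw [Ample.app_mres]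
      have h1 := congrArg (mres N (show W ≤ W₀ from hWle)) he
      change mres N _ (mres N i₁.le _) = mres N _ (mres N _ _) at h1
      rw [InvExt.mres_mres, InvExt.mres_mres] at h1
      exact h1.trans (map_zero _)
    rw [← TopCat.Presheaf.germ_res_apply M.presheaf (homOfLE hWO) x hyW z]
    refine Submodule.smul_induction_on (p := fun m : Γ(M, W) => M.presheaf.germ W x hyW m ∈
      Goodman.st J x • (⊤ : Submodule (X.presheaf.stalk x) (M.presheaf.stalk x)))
      ((h ⟨W, hW⟩ _).1 h0) (fun a ha m _ => ?_) (fun a b ha hb => ?_)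
    · rw [WeakAss.germ_smul]
      refine Submodule.smul_mem_smul ?_ trivial
      rw [Goodman.st_eq J ⟨W, hW⟩ hyW]
      exact Ideal.mem_map_of_mem _ ha
    · rw [map_add]
      exact Submodule.add_mem _ ha hb
  · obtain ⟨O, hy, z, rfl⟩ := TopCat.Presheaf.exists_germ_eq M.presheaf v
    obtain ⟨_, ⟨W, hW, rfl⟩, hyW, hWO⟩ :=
      X.isBasis_affineOpens.exists_subset_of_mem_open (show x ∈ O from hy) O.2
    rw [← TopCat.Presheaf.germ_res_apply M.presheaf (homOfLE (show W ≤ O from hWO)) x hyW z]
    rw [Goodman.st_eq J ⟨W, hW⟩ hyW] at hr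
    rw [LinearMap.mem_ker, map_smul]
    refine Submodule.span_induction (p := fun r _ => r • stalkLin φ x (M.presheaf.germ W x hyW _) = 0)
      ?_ (zero_smul _ _) (fun a b _ _ ha hb => by rw [add_smul, ha, hb, add_zero])
      (fun c a _ ha => by rw [smul_eq_mul, mul_smul, ha, smul_zero]) hr
    rintro _ ⟨a, ha, rfl⟩
    rw [← map_smul, ← WeakAss.germ_smul, QCoh.stalkLin_germ]
    exact (congrArg _ ((h ⟨W, hW⟩ _).2 (Submodule.smul_mem_smul ha trivial))).trans (map_zero _)

/-- The unit of a closed subscheme on stalks. -/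
theorem ker_stalkLin_unit (J : X.IdealSheafData) (F : X.Modules) [F.IsQuasicoherent] (x : X) :
    LinearMap.ker (stalkLin ((Scheme.Modules.pullbackPushforwardAdjunction J.subschemeι).unit.app F) x) =
      Goodman.st J x • ⊤ := by
  refine ker_stalkLin_eq J _ (fun U m => ?_) x
  have := (K0Sub.app_unit_surjective_and_ker J.subschemeι F U).2 m
  rwa [Scheme.IdealSheafData.ker_subschemeι] at this

theorem epi_unit_closed {Z : Scheme.{u}} (i : Z ⟶ X) [IsClosedImmersion i] (F : X.Modules) [F.IsQuasicoherent] :
    Epi ((Scheme.Modules.pullbackPushforwardAdjunction i).unit.app F) :=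
  haveI : ((Scheme.Modules.pullback i ⋙ Scheme.Modules.pushforward i).obj F).IsQuasicoherent :=
    K0Sub.isQuasicoherent_pushPull i F
  K0Sub.epi_of_app_surjective _ fun U => (K0Sub.app_unit_surjective_and_ker i F U).1

theorem isIso_unit_push {Z : Scheme.{u}} (i : Z ⟶ X) [IsClosedImmersion i] (N : Z.Modules)
    [((Scheme.Modules.pushforward i).obj N).IsQuasicoherent] :
    IsIso ((Scheme.Modules.pullbackPushforwardAdjunction i).unit.app ((Scheme.Modules.pushforward i).obj N)) :=
  QCoh.isIso_unit_of_killed i _ (K0Sub.killedByIdeal_push i N)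

theorem isIso_counit_closed {Z : Scheme.{u}} (i : Z ⟶ X) [IsClosedImmersion i] (N : Z.Modules)
    [((Scheme.Modules.pushforward i).obj N).IsQuasicoherent] :
    IsIso ((Scheme.Modules.pullbackPushforwardAdjunction i).counit.app N) := by
  let adj := Scheme.Modules.pullbackPushforwardAdjunction i
  haveI := isIso_unit_push i N
  haveI : IsIso ((Scheme.Modules.pushforward i).map (adj.counit.app N)) := by
    rw [show (Scheme.Modules.pushforward i).map (adj.counit.app N) =
      inv ((Scheme.Modules.pullbackPushforwardAdjunction i).unit.app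
        ((Scheme.Modules.pushforward i).obj N)) from (IsIso.eq_inv_of_hom_inv_id (adj.right_triangle_components N))]
    infer_instance
  exact K0Sub.isIso_of_isIso_push i (adj.counit.app N)

/-- A direct image from a closed subscheme is killed by its ideal on stalks. -/
theorem smul_push_eq_bot (J : X.IdealSheafData) (N : J.subscheme.Modules)
    [((Scheme.Modules.pushforward J.subschemeι).obj N).IsQuasicoherent] (x : X) :
    Goodman.st J x • (⊤ : Submodule (X.presheaf.stalk x)
      (((Scheme.Modules.pushforward J.subschemeι).obj N).presheaf.stalk x)) = ⊥ := by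
  haveI := isIso_unit_push J.subschemeι N
  rw [← ker_stalkLin_unit J, LinearMap.ker_eq_bot]
  exact QCoh.stalkLin_injective _ x

/-- Torsion in a direct image of a locally free module from a thickening of a divisor. -/
theorem mem_pow_smul_of_smul_eq_zero (J : X.IdealSheafData) (N : J.subscheme.Modules)
    [((Scheme.Modules.pushforward J.subschemeι).obj N).IsQuasicoherent] (hN : FlatMod.IsFinLocFree N) (x : X)
    {b : X.presheaf.stalk x} (hb : ∀ c, c * b = 0 → c = 0) (m : ℕ)
    (hJ : Goodman.st J x = Ideal.span {b ^ (m + 1)})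
    {v : ((Scheme.Modules.pushforward J.subschemeι).obj N).presheaf.stalk x} (hv : b • v = 0) :
    v ∈ Ideal.span {b ^ m} • (⊤ : Submodule (X.presheaf.stalk x)
      (((Scheme.Modules.pushforward J.subschemeι).obj N).presheaf.stalk x)) := by
  by_cases hx : x ∈ (J.support : Set X)
  · rw [← J.range_subschemeι] at hx
    obtain ⟨z, rfl⟩ := hx
    obtain ⟨D, n, e, hz, he⟩ := FinCov.exists_frame_nhd hN z
    obtain ⟨bas⟩ := Euler.stalk_basis_of_frame he hz
    obtain ⟨_, ⟨U, hU, rfl⟩, hxU, -⟩ :=
      X.isBasis_affineOpens.exists_subset_of_mem_open (Set.mem_univ (J.subschemeι z)) isOpen_univ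
    let σ := (J.subschemeι.stalkMap z).hom
    have hσ : Function.Surjective σ := BlowUp.surjective_stalkMap_subschemeι J z
    have hker : RingHom.ker σ = Ideal.span {b ^ (m + 1)} := by
      rw [← hJ, Goodman.st_eq J ⟨U, hU⟩ hxU]
      exact BlowUp.ker_stalkMap_subschemeι J z ⟨U, hU⟩ hxU
    let φ := QCoh.pushStalkHom J.subschemeι z N
    have hφ := QCoh.pushStalkHom_bijective J.subschemeι z N J.subschemeι.isClosedEmbedding.isInducing
    have h0 : σ b • (show N.presheaf.stalk z from φ.hom v) = 0 :=
      (φ.hom.map_smul b v).symm.trans ((congrArg φ.hom hv).trans (map_zero _))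
    have hc : ∀ j, ∃ d : J.subscheme.presheaf.stalk z, bas.repr (φ.hom v) j = σ b ^ m * d := by
      intro j
      obtain ⟨a, ha⟩ := hσ (bas.repr (φ.hom v) j)
      have h1 : σ b * bas.repr (φ.hom v) j = 0 := by
        have := congrArg (fun w => bas.repr w j) h0
        simpa [Finsupp.smul_apply] using this
      have h2 : b * a ∈ RingHom.ker σ := by rw [RingHom.mem_ker, map_mul, ha, h1]
      rw [hker, Ideal.mem_span_singleton'] at h2
      obtain ⟨d, hd⟩ := h2
      have h3 : a = b ^ m * d := sub_eq_zero.1 (hb _ (by linear_combination -hd))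
      exact ⟨σ d, by rw [← ha, h3, map_mul, map_pow]⟩
    choose d hd using hc
    obtain ⟨w, hw⟩ := hφ.2 (∑ j, d j • bas j)
    have hv' : v = b ^ m • w := by
      refine hφ.1 (Eq.trans ?_ (φ.hom.map_smul (b ^ m) w).symm)
      show _ = σ (b ^ m) • (show N.presheaf.stalk z from φ.hom w)
      rw [show (show N.presheaf.stalk z from φ.hom w) = ∑ j, d j • bas j from hw, Finset.smul_sum]
      refine (bas.sum_repr (φ.hom v)).symm.trans (Finset.sum_congr rfl fun j _ => ?_)
      rw [hd j, mul_smul, map_pow]
    rw [hv']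
    exact Submodule.smul_mem_smul (Ideal.mem_span_singleton_self _) trivial
  · haveI : Subsingleton (((Scheme.Modules.pushforward J.subschemeι).obj N).presheaf.stalk x) := by
      refine QCoh.stalk_subsingleton_of_notMem fun hs => hx ?_
      rw [← J.range_subschemeι]
      exact QCoh.support_pushforward_subset_range J.subschemeι N hs
    rw [Subsingleton.elim v 0]
    exact zero_mem _

open scoped TensorProduct in
/-- A coherent module whose restrictions to all thickenings are locally free is free on stalks. -/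
theorem free_stalk_of_levels [IsLocallyNoetherian X] {F : X.Modules} (hF : Coh.IsCoh F) (J : X.IdealSheafData)
    (h : ∀ n : ℕ, FlatMod.IsFinLocFree ((Scheme.Modules.pullback (J ^ (n + 1)).subschemeι).obj F))
    {y : X} (hy : y ∈ J.support) :
    Module.Free (X.presheaf.stalk y) (F.presheaf.stalk y) := by
  have := hF.1
  haveI := GrothLib.FittSheaf.finite_stalk hF.2 y
  have hK : CartierDescent.stalkIdeal J y ≠ ⊤ := fun hc => (CartierDescent.stalkIdeal_eq_top_iff J y).1 hc hy
  choose z hz using fun n => FormalFun.exists_level_point J n hy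
  have key : ∀ n, ∃ (S : Type u) (_ : CommRing S) (_ : Algebra (X.presheaf.stalk y) S) (r : ℕ), Nontrivial S ∧
      Function.Surjective (algebraMap (X.presheaf.stalk y) S) ∧
      RingHom.ker (algebraMap (X.presheaf.stalk y) S) = CartierDescent.stalkIdeal J y ^ (n + 1) ∧
      Nonempty ((S ⊗[X.presheaf.stalk y] F.presheaf.stalk y) ≃ₗ[S] (Fin r → S)) := by
    intro n
    obtain rfl := hz n
    let i := (J ^ (n + 1)).subschemeι
    obtain ⟨D, r, e, hx, he⟩ := FinCov.exists_frame_nhd (h n) (z n)
    obtain ⟨b⟩ := Euler.stalk_basis_of_frame he hx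
    exact ⟨(J ^ (n + 1)).subscheme.presheaf.stalk (z n), inferInstance, (i.stalkMap (z n)).hom.toAlgebra, r,
      inferInstance, i.stalkMap_surjective (z n), FormalFun.ker_stalkMap_level J n (z n),
      ⟨((OX.pullStalkIso i (z n)).app F).toLinearEquiv.symm.trans b.equivFun⟩⟩
  choose S iS iA r hnt hs hk he using key
  have hle : ∀ m n, r m ≤ r n := by
    intro m n
    choose g hg using fun i => FormalFun.exists_one_tmul (S n) (hs n) ((he n).some.symm (Pi.single i 1))
    let ψ : (Fin (r n) → X.presheaf.stalk y) →ₗ[X.presheaf.stalk y] F.presheaf.stalk y :=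
      Fintype.linearCombination (X.presheaf.stalk y) g
    have hψ : Function.Surjective ψ := by
      refine FormalFun.surjective_of_baseChange (S n) (hs n) ?_ ψ fun t => ?_
      · rw [hk n, IsLocalRing.jacobson_eq_maximalIdeal (⊥ : Ideal _) bot_ne_top]
        exact (Ideal.pow_le_self (Nat.succ_ne_zero n)).trans (IsLocalRing.le_maximalIdeal hK)
      · refine ⟨∑ i, ((he n).some t i) • ((1 : S n) ⊗ₜ[X.presheaf.stalk y] Pi.single i 1), ?_⟩
        apply (he n).some.injective
        rw [map_sum, map_sum]
        refine Eq.trans ?_ (pi_eq_sum_univ' ((he n).some t)).symm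
        refine Finset.sum_congr rfl fun i _ => ?_
        rw [map_smul, map_smul, LinearMap.baseChange_tmul]
        have : ψ (Pi.single i 1) = g i := by
          rw [Fintype.linearCombination_apply_single, one_smul]
        rw [this, hg, LinearEquiv.apply_symm_apply]
    let e₁ : (S m ⊗[X.presheaf.stalk y] (Fin (r n) → X.presheaf.stalk y)) ≃ₗ[S m] (Fin (r n) → S m) :=
      TensorProduct.piScalarRight _ _ _ _
    exact le_of_fin_surjective (S m) ((he m).some.toLinearMap ∘ₗ ψ.baseChange (S m) ∘ₗ e₁.symm.toLinearMap)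
      ((he m).some.surjective.comp ((LinearMap.lTensor_surjective (S m) hψ).comp e₁.symm.surjective))
  obtain ⟨e⟩ := FormalFun.exists_equiv_of_forall_level hK (r 0) S hs hk fun n =>
    (he n).some ≪≫ₗ (LinearEquiv.funCongrLeft (S n) (S n)
      (finCongr (le_antisymm (hle 0 n) (hle n 0))))
  exact Module.Free.of_equiv e.symm

end GrothLib.LeffAmp7
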