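import Groth.Agent.Lib.LeffAmp7.Data
import Groth.Agent.Lib.LeffAmp7.Stalks
import Groth.Agent.Lib.FFormal7.Adjunct
import Groth.Agent.Lib.FormalExist7.PushTwist
import Groth.Prelude.Def_LefX

/-!
# The system of thickenings of a bundle on the completion along an invertible ideal
-/

set_option autoImplicit false
set_option linter.style.haveILetI false

universe u

open CategoryTheory CategoryTheory.Limits AlgebraicGeometry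

noncomputable section

namespace GrothLib.LeffAmp7

open GrothLib.QCoh (stalkLin)
open GrothLib.FFormal7 (adjunct lowerMap)

variable {X : Scheme.{u}}

theorem mem_span_smul {R M : Type*} [CommRing R] [AddCommGroup M] [Module R M] {c : R} {v : M} :
    v ∈ Ideal.span {c} • (⊤ : Submodule R M) ↔ ∃ w, c • w = v := by
  refine ⟨fun h => ?_, fun ⟨w, hw⟩ => hw ▸ Submodule.smul_mem_smul (Ideal.mem_span_singleton_self c) trivial⟩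
  refine Submodule.smul_induction_on (p := fun v => ∃ w, c • w = v) h (fun a ha m _ => ?_) ?_
  · obtain ⟨d, rfl⟩ := Ideal.mem_span_singleton'.1 ha
    exact ⟨d • m, by rw [smul_smul, mul_comm]⟩
  · rintro _ _ ⟨a, rfl⟩ ⟨b, rfl⟩
    exact ⟨a + b, smul_add _ _ _⟩

theorem stalkLin_map_eq_zero {M N : X.Modules} (φ : M ⟶ N) (h : ∀ x v, stalkLin φ x v = 0) : φ = 0 :=
  (OX.eq_zero_iff φ).2 fun x => FormalFun.stalk_map_eq_zero_of_forall (h x)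

variable [IsLocallyNoetherian X] (𝓘 : X.IdealSheafData) (hI : PicF.IsInvertible (ClSub.idealMod 𝓘))
  (𝔐 : FSch.ModSys (FSch.completionAlong X 𝓘)) (h𝔐 : LefX.LevelwiseFinLocFree 𝔐)

omit [IsLocallyNoetherian X] in
theorem toX_eq (n : ℕ) : FSch.completionToX X 𝓘 n =
    (FSch.completionAlong X 𝓘).ι n ≫ FSch.completionToX X 𝓘 (n + 1) :=
  (Scheme.IdealSheafData.inclusion_subschemeι _).symm

/-- A level of a system, on the scheme. -/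
abbrev lvl (n : ℕ) : X.Modules := (Scheme.Modules.pushforward (FSch.completionToX X 𝓘 n)).obj (𝔐.F n)

include h𝔐 in
theorem isCoh_lvl (n : ℕ) : Coh.IsCoh (lvl 𝓘 𝔐 n) :=
  FormalExist7.isCoh_pushforward (FSch.completionToX X 𝓘 n) (Euler.isCoh_of_isFinLocFree (h𝔐 n))

/-- The transition between consecutive levels. -/
def lvlT (n : ℕ) : lvl 𝓘 𝔐 (n + 1) ⟶ lvl 𝓘 𝔐 n :=
  (Scheme.Modules.pushforward (FSch.completionToX X 𝓘 (n + 1))).map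
      ((Scheme.Modules.pullbackPushforwardAdjunction ((FSch.completionAlong X 𝓘).ι n)).unit.app (𝔐.F (n + 1)) ≫
        (Scheme.Modules.pushforward ((FSch.completionAlong X 𝓘).ι n)).map (𝔐.e n).hom) ≫
    (Scheme.Modules.pushforwardComp ((FSch.completionAlong X 𝓘).ι n) (FSch.completionToX X 𝓘 (n + 1))).hom.app
      (𝔐.F n) ≫
    (Scheme.Modules.pushforwardCongr (toX_eq 𝓘 n).symm).hom.app (𝔐.F n)

/-- The map on the lower level of a map to the next level. -/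
abbrev lvlA (n : ℕ) : (Scheme.Modules.pullback (FSch.completionToX X 𝓘 n)).obj (lvl 𝓘 𝔐 (n + 1)) ⟶ 𝔐.F n :=
  lowerMap (toX_eq 𝓘 n)
    ((Scheme.Modules.pullbackPushforwardAdjunction (FSch.completionToX X 𝓘 (n + 1))).counit.app (𝔐.F (n + 1))) (𝔐.e n)

omit [IsLocallyNoetherian X] in
theorem lvlT_eq (n : ℕ) : lvlT 𝓘 𝔐 n = adjunct (FSch.completionToX X 𝓘 n) (lvlA 𝓘 𝔐 n) := by
  refine Eq.trans ?_ (FFormal7.adjunct_lowerMap (toX_eq 𝓘 n) _ (𝔐.e n)).symm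
  refine ((Category.id_comp _).symm.trans (congrArg (· ≫ lvlT 𝓘 𝔐 n) ?_))
  exact ((Scheme.Modules.pullbackPushforwardAdjunction (FSch.completionToX X 𝓘 (n + 1))).right_triangle_components
    (𝔐.F (n + 1))).symm

include h𝔐 in
theorem isIso_lvlA (n : ℕ) : IsIso (lvlA 𝓘 𝔐 n) := by
  haveI := (isCoh_lvl 𝓘 𝔐 h𝔐 (n + 1)).1
  haveI := isIso_counit_closed (FSch.completionToX X 𝓘 (n + 1)) (𝔐.F (n + 1))
  unfold lvlA lowerMap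
  infer_instance

include h𝔐 in
theorem epi_lvlT (n : ℕ) : Epi (lvlT 𝓘 𝔐 n) := by
  haveI := (isCoh_lvl 𝓘 𝔐 h𝔐 (n + 1)).1
  haveI := isIso_lvlA 𝓘 𝔐 h𝔐 n
  rw [lvlT_eq]
  haveI := epi_unit_closed (FSch.completionToX X 𝓘 n) (lvl 𝓘 𝔐 (n + 1))
  exact epi_comp _ _

include h𝔐 in
theorem ker_lvlT (n : ℕ) (x : X) (v : (lvl 𝓘 𝔐 (n + 1)).presheaf.stalk x) :
    stalkLin (lvlT 𝓘 𝔐 n) x v = 0 ↔ v ∈ Goodman.st (𝓘 ^ (n + 1)) x • (⊤ : Submodule (X.presheaf.stalk x) _) := by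
  haveI := (isCoh_lvl 𝓘 𝔐 h𝔐 (n + 1)).1
  haveI := isIso_lvlA 𝓘 𝔐 h𝔐 n
  rw [← ker_stalkLin_unit (𝓘 ^ (n + 1)), LinearMap.mem_ker, lvlT_eq, adjunct, HodgeIndex.stalkLin_comp_apply]
  exact map_eq_zero_iff _ (QCoh.stalkLin_injective _ x)

include h𝔐 in
theorem smul_lvl_eq_zero (n : ℕ) (x : X) {c : X.presheaf.stalk x} (hc : c ∈ Goodman.st (𝓘 ^ (n + 1)) x)
    (v : (lvl 𝓘 𝔐 n).presheaf.stalk x) : c • v = 0 := by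
  haveI : ((Scheme.Modules.pushforward (𝓘 ^ (n + 1)).subschemeι).obj (𝔐.F n)).IsQuasicoherent := (isCoh_lvl 𝓘 𝔐 h𝔐 n).1
  exact (Submodule.mem_bot _).1 ((smul_push_eq_bot (𝓘 ^ (n + 1)) (𝔐.F n) x).le (Submodule.smul_mem_smul hc trivial))

omit [IsLocallyNoetherian X] in
theorem st_pow_span (x : X) {b : X.presheaf.stalk x} (hb : Goodman.st 𝓘 x = Ideal.span {b}) (k : ℕ) :
    Goodman.st (𝓘 ^ k) x = Ideal.span {b ^ k} := by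
  rw [Goodman.st_pow, hb, Ideal.span_singleton_pow]

include h𝔐 in
theorem μ_ker_lvlT (n : ℕ) :
    kernel.ι (((twist 𝓘 hI).T (-1)).map (lvlT 𝓘 𝔐 n)) ≫ (twist 𝓘 hI).μ.app (lvl 𝓘 𝔐 (n + 1)) = 0 := by
  refine stalkLin_map_eq_zero _ fun x w => ?_
  obtain ⟨b, hb, hb0, θ, hθ, hθn, hθμ⟩ := exists_stalk_μ 𝓘 hI x
  rw [HodgeIndex.stalkLin_comp_apply]
  obtain ⟨v, hv⟩ := (hθ (lvl 𝓘 𝔐 (n + 1))).2
    (stalkLin (kernel.ι (((twist 𝓘 hI).T (-1)).map (lvlT 𝓘 𝔐 n))) x w)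
  rw [← hv, hθμ]
  have h1 : θ (lvl 𝓘 𝔐 n) (stalkLin (lvlT 𝓘 𝔐 n) x v) = θ (lvl 𝓘 𝔐 n) 0 := by
    have h0 : ((twist 𝓘 hI).T (-1)).map (0 : lvl 𝓘 𝔐 (n + 1) ⟶ lvl 𝓘 𝔐 n) = 0 := Functor.map_zero _ _ _
    rw [← hθn (lvlT 𝓘 𝔐 n) v, hv, ← HodgeIndex.stalkLin_comp_apply, kernel.condition,
      Kodaira.stalkLin_zero_apply, ← map_zero (stalkLin (0 : lvl 𝓘 𝔐 (n + 1) ⟶ lvl 𝓘 𝔐 n) x),
      ← hθn, h0, Kodaira.stalkLin_zero_apply]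
  have h2 := (hθ _).1 h1
  rw [ker_lvlT 𝓘 𝔐 h𝔐, st_pow_span 𝓘 x hb, mem_span_smul] at h2
  obtain ⟨z, rfl⟩ := h2
  rw [smul_smul, ← pow_succ']
  exact smul_lvl_eq_zero 𝓘 𝔐 h𝔐 (n + 1) x (by rw [st_pow_span 𝓘 x hb]; exact Ideal.mem_span_singleton_self _) z

/-- Multiplication into the next level. -/
def lvlS (n : ℕ) : ((twist 𝓘 hI).T (-1)).obj (lvl 𝓘 𝔐 n) ⟶ lvl 𝓘 𝔐 (n + 1) :=
  haveI := epi_lvlT 𝓘 𝔐 h𝔐 n
  Abelian.epiDesc (((twist 𝓘 hI).T (-1)).map (lvlT 𝓘 𝔐 n)) _ (μ_ker_lvlT 𝓘 hI 𝔐 h𝔐 n)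

theorem lvlS_fac (n : ℕ) : ((twist 𝓘 hI).T (-1)).map (lvlT 𝓘 𝔐 n) ≫ lvlS 𝓘 hI 𝔐 h𝔐 n =
    (twist 𝓘 hI).μ.app (lvl 𝓘 𝔐 (n + 1)) := by
  haveI := epi_lvlT 𝓘 𝔐 h𝔐 n
  exact Abelian.comp_epiDesc _ _ _

include h𝔐 in
theorem ker_uComp (x : X) {b : X.presheaf.stalk x} (hb : Goodman.st 𝓘 x = Ideal.span {b}) : ∀ (n : ℕ)
    (v : (lvl 𝓘 𝔐 (n + 1)).presheaf.stalk x),
      stalkLin (uComp (lvl 𝓘 𝔐) (lvlT 𝓘 𝔐) n) x v = 0 ↔ ∃ w, b • w = v := by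
  intro n
  induction n with
  | zero =>
    intro v
    refine (ker_lvlT 𝓘 𝔐 h𝔐 0 x v).trans ?_
    rw [st_pow_span 𝓘 x hb, mem_span_smul]
    show (∃ w, b ^ 1 • w = v) ↔ _
    rw [pow_one]
  | succ n ih =>
    intro v
    show stalkLin (lvlT 𝓘 𝔐 (n + 1) ≫ uComp (lvl 𝓘 𝔐) (lvlT 𝓘 𝔐) n) x v = 0 ↔ _
    rw [HodgeIndex.stalkLin_comp_apply, ih]
    haveI := epi_lvlT 𝓘 𝔐 h𝔐 (n + 1)
    constructor
    · rintro ⟨w, hw⟩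
      obtain ⟨w', rfl⟩ := QCoh.stalkLin_surjective (lvlT 𝓘 𝔐 (n + 1)) x w
      have h0 : stalkLin (lvlT 𝓘 𝔐 (n + 1)) x (v - b • w') = 0 := by rw [map_sub, map_smul, hw, sub_self]
      rw [ker_lvlT 𝓘 𝔐 h𝔐, st_pow_span 𝓘 x hb, mem_span_smul] at h0
      obtain ⟨z, hz⟩ := h0
      exact ⟨w' + b ^ (n + 1) • z, by rw [smul_add, smul_smul, ← pow_succ', hz, add_sub_cancel]⟩
    · rintro ⟨w, rfl⟩
      exact ⟨_, (map_smul _ _ _).symm⟩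

theorem lvlS_u (n : ℕ) : lvlS 𝓘 hI 𝔐 h𝔐 n ≫ uComp (lvl 𝓘 𝔐) (lvlT 𝓘 𝔐) n = 0 := by
  haveI := epi_lvlT 𝓘 𝔐 h𝔐 n
  rw [← cancel_epi (((twist 𝓘 hI).T (-1)).map (lvlT 𝓘 𝔐 n)), reassoc_of% (lvlS_fac 𝓘 hI 𝔐 h𝔐 n), comp_zero]
  refine stalkLin_map_eq_zero _ fun x w => ?_
  obtain ⟨b, hb, hb0, θ, hθ, hθn, hθμ⟩ := exists_stalk_μ 𝓘 hI x
  obtain ⟨v, rfl⟩ := (hθ (lvl 𝓘 𝔐 (n + 1))).2 w
  rw [HodgeIndex.stalkLin_comp_apply, hθμ]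
  exact (ker_uComp 𝓘 𝔐 h𝔐 x hb n _).2 ⟨v, rfl⟩

theorem lvl_shortExact (n : ℕ) :
    (ShortComplex.mk (lvlS 𝓘 hI 𝔐 h𝔐 n) _ (lvlS_u 𝓘 hI 𝔐 h𝔐 n)).ShortExact := by
  have hT := epi_lvlT 𝓘 𝔐 h𝔐 n
  have hm : Mono (lvlS 𝓘 hI 𝔐 h𝔐 n) := by
    refine (OX.mono_iff _).2 fun x => (ModuleCat.mono_iff_injective _).2 ?_
    show Function.Injective (stalkLin (lvlS 𝓘 hI 𝔐 h𝔐 n) x)
    refine (injective_iff_map_eq_zero _).2 fun z hz => ?_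
    obtain ⟨b, hb, hb0, θ, hθ, hθn, hθμ⟩ := exists_stalk_μ 𝓘 hI x
    obtain ⟨z', rfl⟩ := QCoh.stalkLin_surjective (((twist 𝓘 hI).T (-1)).map (lvlT 𝓘 𝔐 n)) x z
    obtain ⟨v, rfl⟩ := (hθ (lvl 𝓘 𝔐 (n + 1))).2 z'
    rw [← HodgeIndex.stalkLin_comp_apply, lvlS_fac, hθμ] at hz
    haveI : ((Scheme.Modules.pushforward (𝓘 ^ (n + 1 + 1)).subschemeι).obj (𝔐.F (n + 1))).IsQuasicoherent :=
      (isCoh_lvl 𝓘 𝔐 h𝔐 (n + 1)).1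
    have h1 : stalkLin (lvlT 𝓘 𝔐 n) x v = 0 := by
      rw [ker_lvlT 𝓘 𝔐 h𝔐, st_pow_span 𝓘 x hb]
      exact mem_pow_smul_of_smul_eq_zero (𝓘 ^ (n + 1 + 1)) (𝔐.F (n + 1)) (h𝔐 (n + 1)) x hb0 (n + 1)
        (st_pow_span 𝓘 x hb _) hz
    have h0 : ((twist 𝓘 hI).T (-1)).map (0 : lvl 𝓘 𝔐 n ⟶ lvl 𝓘 𝔐 n) = 0 := Functor.map_zero _ _ _
    rw [hθn, h1, ← map_zero (stalkLin (0 : lvl 𝓘 𝔐 n ⟶ lvl 𝓘 𝔐 n) x), ← hθn, h0, Kodaira.stalkLin_zero_apply]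
  have he : Epi (uComp (lvl 𝓘 𝔐) (lvlT 𝓘 𝔐) n) := by
    clear hm
    induction n with
    | zero => exact hT
    | succ n ih =>
      haveI := ih (epi_lvlT 𝓘 𝔐 h𝔐 n)
      haveI := hT
      exact epi_comp _ _
  refine ShortComplex.ShortExact.mk' ?_ hm he
  refine (OX.exact_iff _).2 fun x => (ShortComplex.ShortExact.moduleCat_exact_iff_function_exact _).2 fun v => ?_
  obtain ⟨b, hb, hb0, θ, hθ, hθn, hθμ⟩ := exists_stalk_μ 𝓘 hI x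
  show stalkLin (uComp (lvl 𝓘 𝔐) (lvlT 𝓘 𝔐) n) x v = 0 ↔ v ∈ Set.range (stalkLin (lvlS 𝓘 hI 𝔐 h𝔐 n) x)
  constructor
  · intro hv
    obtain ⟨w, rfl⟩ := (ker_uComp 𝓘 𝔐 h𝔐 x hb n v).1 hv
    exact ⟨stalkLin (((twist 𝓘 hI).T (-1)).map (lvlT 𝓘 𝔐 n)) x (θ _ w), by
      rw [← HodgeIndex.stalkLin_comp_apply, lvlS_fac, hθμ]⟩
  · rintro ⟨z, rfl⟩
    rw [← HodgeIndex.stalkLin_comp_apply, lvlS_u, Kodaira.stalkLin_zero_apply]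

/-- The system of thickenings of a bundle on the completion. -/
def lvlSys : Sys (twist 𝓘 hI) where
  G := lvl 𝓘 𝔐
  coh := isCoh_lvl 𝓘 𝔐 h𝔐
  t := lvlT 𝓘 𝔐
  s := lvlS 𝓘 hI 𝔐 h𝔐
  s_fac := lvlS_fac 𝓘 hI 𝔐 h𝔐
  s_t n := by
    haveI := epi_lvlT 𝓘 𝔐 h𝔐 (n + 1)
    rw [← cancel_epi (((twist 𝓘 hI).T (-1)).map (lvlT 𝓘 𝔐 (n + 1))), reassoc_of% (lvlS_fac 𝓘 hI 𝔐 h𝔐 (n + 1)),
      lvlS_fac]
    exact ((twist 𝓘 hI).μ.naturality _).symm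
  s_u := lvlS_u 𝓘 hI 𝔐 h𝔐
  shortExact := lvl_shortExact 𝓘 hI 𝔐 h𝔐

end GrothLib.LeffAmp7
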