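import Groth.Agent.Lib.LeffAmp7.Present
import Groth.Agent.Lib.LeffAmp7.Bundle
import Groth.Agent.Lib.FunMor20.Supp
import Groth.Agent.Lib.HomSh.Coherent
import Groth.Agent.Lib.HilbDesc10.Push

/-!
# Algebraization of bundles on the completion along an invertible ideal
-/

set_option autoImplicit false
set_option linter.style.haveILetI false

universe u

open CategoryTheory CategoryTheory.Limits AlgebraicGeometry TopologicalSpace

noncomputable section

namespace GrothLib.LeffAmp7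

open GrothLib.QCoh (stalkLin)
open GrothLib.FFormal7 (adjunct lowerMap)

variable {X : Scheme.{u}} (𝓘 : X.IdealSheafData)

section
attribute [local irreducible] Scheme.Modules.pullback Scheme.Modules.pullbackComp Scheme.Modules.pullbackCongr

theorem completion_e (F : X.Modules) (n : ℕ) : (FSch.completionMod 𝓘 F).e n =
    (Scheme.Modules.pullbackComp (Scheme.IdealSheafData.inclusion (FSch.pow_succ_le X 𝓘 n))
      (FSch.completionToX X 𝓘 (n + 1))).app F ≪≫
    (Scheme.Modules.pullbackCongr (Scheme.IdealSheafData.inclusion_subschemeι (FSch.pow_succ_le X 𝓘 n))).app F := by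
  exact rfl

end

theorem app_trans_natural {C D E : Type*} [Category C] [Category D] [Category E] {P : C ⥤ D} {Q : D ⥤ E}
    {R R' : C ⥤ E} (a : P ⋙ Q ≅ R) (b : R ≅ R') {F G : C} (φ : F ⟶ G) :
    Q.map (P.map φ) ≫ (a.app G ≪≫ b.app G).hom = (a.app F ≪≫ b.app F).hom ≫ R'.map φ := by
  rw [Iso.trans_hom, Iso.trans_hom, Iso.app_hom, Iso.app_hom, Iso.app_hom, Iso.app_hom, Category.assoc,
    ← b.hom.naturality φ, ← Category.assoc, ← Category.assoc, ← a.hom.naturality φ]
  rfl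

theorem natural_of_e {Z Z' Y : Scheme.{u}} {i : Z ⟶ Z'} {e' : Z' ⟶ Y} {e : Z ⟶ Y} (he' : i ≫ e' = e)
    {F G : Y.Modules} (φ : F ⟶ G)
    (eG : (Scheme.Modules.pullback i).obj ((Scheme.Modules.pullback e').obj G) ≅ (Scheme.Modules.pullback e).obj G)
    (hG : eG = (Scheme.Modules.pullbackComp i e').app G ≪≫ (Scheme.Modules.pullbackCongr he').app G)
    (eF : (Scheme.Modules.pullback i).obj ((Scheme.Modules.pullback e').obj F) ≅ (Scheme.Modules.pullback e).obj F)
    (hF : eF = (Scheme.Modules.pullbackComp i e').app F ≪≫ (Scheme.Modules.pullbackCongr he').app F) :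
    (Scheme.Modules.pullback i).map ((Scheme.Modules.pullback e').map φ) ≫ eG.hom =
      eF.hom ≫ (Scheme.Modules.pullback e).map φ := by
  subst hG hF
  exact app_trans_natural (P := Scheme.Modules.pullback e') (Q := Scheme.Modules.pullback i) _ _ φ

theorem trans_lowerMap {Z Z' Y : Scheme.{u}} {i : Z ⟶ Z'} {e' : Z' ⟶ Y} {e : Z ⟶ Y} (he : e = i ≫ e')
    (he' : i ≫ e' = e) {M : Y.Modules} {F' : Z'.Modules} {F : Z.Modules}
    (α : (Scheme.Modules.pullback e').obj M ⟶ F') (ψ : (Scheme.Modules.pullback i).obj F' ≅ F)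
    (eM : (Scheme.Modules.pullback i).obj ((Scheme.Modules.pullback e').obj M) ≅ (Scheme.Modules.pullback e).obj M)
    (hM : eM = (Scheme.Modules.pullbackComp i e').app M ≪≫ (Scheme.Modules.pullbackCongr he').app M) :
    (Scheme.Modules.pullback i).map α ≫ ψ.hom = eM.hom ≫ lowerMap he α ψ := by
  subst hM
  subst he
  simp [lowerMap, Scheme.Modules.pullbackCongr]

section
attribute [local irreducible] Scheme.Modules.pullback Scheme.Modules.pullbackComp Scheme.Modules.pullbackCongr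

theorem completion_e' (F : X.Modules) (n : ℕ) : (FSch.completionMod 𝓘 F).e n =
    (Scheme.Modules.pullbackComp ((FSch.completionAlong X 𝓘).ι n) (FSch.completionToX X 𝓘 (n + 1))).app F ≪≫
    (Scheme.Modules.pullbackCongr (toX_eq 𝓘 n).symm).app F := by
  exact rfl

theorem completion_e_natural {F G : X.Modules} (φ : F ⟶ G) (n : ℕ) :
    (Scheme.Modules.pullback ((FSch.completionAlong X 𝓘).ι n)).map
        ((Scheme.Modules.pullback (FSch.completionToX X 𝓘 (n + 1))).map φ) ≫ ((FSch.completionMod 𝓘 G).e n).hom =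
      ((FSch.completionMod 𝓘 F).e n).hom ≫ (Scheme.Modules.pullback (FSch.completionToX X 𝓘 n)).map φ :=
  natural_of_e (toX_eq 𝓘 n).symm φ _ (completion_e' 𝓘 G n) _ (completion_e' 𝓘 F n)

end

/-- A levelwise isomorphism of systems of modules is an isomorphism. -/
theorem nonempty_iso_of_app {𝔛 : FSch.Sys.{u}} {𝔐 𝔑 : FSch.ModSys 𝔛} (f : 𝔐 ⟶ 𝔑) (h : ∀ n, IsIso (f.app n)) :
    Nonempty (𝔐 ≅ 𝔑) := by
  let g : 𝔑 ⟶ 𝔐 := ⟨fun n => inv (f.app n), fun n => by
    rw [Functor.map_inv, IsIso.inv_comp_eq, reassoc_of% (f.comm n), IsIso.hom_inv_id, Category.comp_id]⟩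
  exact ⟨⟨f, g, FSch.ModSys.Hom.ext (funext fun n => IsIso.hom_inv_id _),
    FSch.ModSys.Hom.ext (funext fun n => IsIso.inv_hom_id _)⟩⟩

/-- The map on completions. -/
def completionModMap {F G : X.Modules} (φ : F ⟶ G) : FSch.completionMod 𝓘 F ⟶ FSch.completionMod 𝓘 G :=
  ⟨fun n => (Scheme.Modules.pullback (FSch.completionToX X 𝓘 n)).map φ, completion_e_natural 𝓘 φ⟩

theorem completionModMap_app {F G : X.Modules} (φ : F ⟶ G) (n : ℕ) :
    (completionModMap 𝓘 φ).app n = (Scheme.Modules.pullback (FSch.completionToX X 𝓘 n)).map φ := by exact rfl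

theorem isIso_pullback_map_unit {Z : Scheme.{u}} (U : X.Opens) (e : Z ⟶ X) (he : Set.range e ⊆ (U : Set X))
    (F : X.Modules) :
    IsIso ((Scheme.Modules.pullback e).map ((Scheme.Modules.pullbackPushforwardAdjunction U.ι).unit.app F)) := by
  let adj := Scheme.Modules.pullbackPushforwardAdjunction U.ι
  haveI := FunMor20.isIso_counit_open U.ι
  haveI : IsIso ((Scheme.Modules.pullback U.ι).map (adj.unit.app F)) := by
    have := adj.left_triangle_components F
    rw [show (Scheme.Modules.pullback U.ι).map (adj.unit.app F) =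
      inv (adj.counit.app ((Scheme.Modules.pullback U.ι).obj F)) from IsIso.eq_inv_of_inv_hom_id this]
    infer_instance
  let g : Z ⟶ U := IsOpenImmersion.lift U.ι e (by rw [Scheme.Opens.range_ι]; exact he)
  have hg : g ≫ U.ι = e := IsOpenImmersion.lift_fac _ _ _
  exact (NatIso.isIso_map_iff (Scheme.Modules.pullbackComp g U.ι ≪≫ Scheme.Modules.pullbackCongr hg) (adj.unit.app F)).1
    (inferInstanceAs (IsIso ((Scheme.Modules.pullback g).map ((Scheme.Modules.pullback U.ι).map (adj.unit.app F)))))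

/-- Modules agreeing on a neighbourhood of the support have the same completion. -/
theorem nonempty_completion_iso_push (U : X.Opens) (hU : (𝓘.support : Set X) ⊆ (U : Set X)) (F : X.Modules) :
    Nonempty (FSch.completionMod 𝓘 ((Scheme.Modules.pushforward U.ι).obj ((Scheme.Modules.pullback U.ι).obj F)) ≅
      FSch.completionMod 𝓘 F) := by
  let η := (Scheme.Modules.pullbackPushforwardAdjunction U.ι).unit.app F
  have h1 : ∀ n, IsIso ((Scheme.Modules.pullback (FSch.completionToX X 𝓘 n)).map η) := fun n =>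
    isIso_pullback_map_unit U (FSch.completionToX X 𝓘 n) (by
      show Set.range (𝓘 ^ (n + 1)).subschemeι ⊆ _
      rw [(𝓘 ^ (n + 1)).range_subschemeι, Scheme.IdealSheafData.support_pow_succ]
      exact hU) F
  let f : FSch.completionMod 𝓘 F ⟶
      FSch.completionMod 𝓘 ((Scheme.Modules.pushforward U.ι).obj ((Scheme.Modules.pullback U.ι).obj F)) :=
    completionModMap 𝓘 η
  obtain ⟨e⟩ := nonempty_iso_of_app f h1
  exact ⟨e.symm⟩

variable [IsLocallyNoetherian X] (hI : PicF.IsInvertible (ClSub.idealMod 𝓘))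

theorem range_μk (x : X) {b : X.presheaf.stalk x} {θ : ∀ M : X.Modules, M.presheaf.stalk x →
      (((twist 𝓘 hI).T (-1)).obj M).presheaf.stalk x} (hθ : ∀ M, Function.Bijective (θ M))
    (hθμ : ∀ (M : X.Modules) (v : M.presheaf.stalk x), stalkLin ((twist 𝓘 hI).μ.app M) x (θ M v) = b • v)
    (M : X.Modules) : ∀ (k : ℕ) (v : M.presheaf.stalk x),
      (∃ z, stalkLin (μk (twist 𝓘 hI) M k) x z = v) ↔ ∃ w, b ^ k • w = v := by
  intro k
  induction k with
  | zero =>
    intro v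
    refine ⟨fun _ => ⟨v, by rw [pow_zero, one_smul]⟩, fun _ => ?_⟩
    exact ((ConcreteCategory.isIso_iff_bijective ((OX.stalk x).map ((twist 𝓘 hI).zeroIso.hom.app M))).1
      inferInstance).2 v
  | succ k ih =>
    intro v
    obtain ⟨e, he⟩ := μk_succ (twist 𝓘 hI) M k
    have hn : ((twist 𝓘 hI).T (-1)).map (μk (twist 𝓘 hI) M k) ≫ (twist 𝓘 hI).μ.app M =
        (twist 𝓘 hI).μ.app (((twist 𝓘 hI).T (-(k : ℤ))).obj M) ≫ μk (twist 𝓘 hI) M k :=
      (twist 𝓘 hI).μ.naturality _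
    rw [hn] at he
    have hv : ∀ z, stalkLin (μk (twist 𝓘 hI) M (k + 1)) x z = stalkLin (μk (twist 𝓘 hI) M k) x
        (stalkLin ((twist 𝓘 hI).μ.app (((twist 𝓘 hI).T (-(k : ℤ))).obj M)) x (stalkLin e.hom x z)) := fun z => by
      rw [he, HodgeIndex.stalkLin_comp_apply, HodgeIndex.stalkLin_comp_apply]
    constructor
    · rintro ⟨z, rfl⟩
      obtain ⟨a, ha⟩ := (hθ (((twist 𝓘 hI).T (-(k : ℤ))).obj M)).2 (stalkLin e.hom x z)
      obtain ⟨w, hw⟩ := (ih (stalkLin (μk (twist 𝓘 hI) M k) x a)).1 ⟨a, rfl⟩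
      refine ⟨w, ?_⟩
      rw [hv, ← ha, hθμ, map_smul, ← hw, smul_smul, ← pow_succ']
    · rintro ⟨w, rfl⟩
      obtain ⟨a, ha⟩ := (ih (b ^ k • w)).2 ⟨w, rfl⟩
      obtain ⟨z, hz⟩ := ((ConcreteCategory.isIso_iff_bijective ((OX.stalk x).map e.hom)).1 inferInstance).2
        (θ (((twist 𝓘 hI).T (-(k : ℤ))).obj M) a)
      refine ⟨z, ?_⟩
      rw [hv, show stalkLin e.hom x z = θ _ a from hz, hθμ, map_smul, ha, smul_smul, ← pow_succ']

theorem ker_cokernel (F : X.Modules) (n : ℕ) {G : X.Modules} (χ : F ⟶ G) (w : μk (twist 𝓘 hI) F (n + 1) ≫ χ = 0)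
    (hχ : IsColimit (CokernelCofork.ofπ χ w)) (x : X) (v : F.presheaf.stalk x) :
    stalkLin χ x v = 0 ↔ v ∈ Goodman.st (𝓘 ^ (n + 1)) x • (⊤ : Submodule (X.presheaf.stalk x) _) := by
  obtain ⟨b, hb, hb0, θ, hθ, hθn, hθμ⟩ := exists_stalk_μ 𝓘 hI x
  have he : (ShortComplex.mk (μk (twist 𝓘 hI) F (n + 1)) χ w).Exact := ShortComplex.exact_of_g_is_cokernel _ hχ
  have := (ShortComplex.ShortExact.moduleCat_exact_iff_function_exact _).1 ((OX.exact_iff _).1 he x) v
  rw [st_pow_span 𝓘 x hb, mem_span_smul, ← range_μk 𝓘 hI x hθ hθμ F (n + 1) v]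
  exact this

variable (𝔐 : FSch.ModSys (FSch.completionAlong X 𝓘)) (h𝔐 : LefX.LevelwiseFinLocFree 𝔐)

include h𝔐 in
/-- A coherent module with the levels as quotients by the powers has the bundle as completion. -/
theorem nonempty_iso_of_cokernel {F : X.Modules} (hF : Coh.IsCoh F) (χ : ∀ n, F ⟶ lvl 𝓘 𝔐 n)
    (w : ∀ n, μk (twist 𝓘 hI) F (n + 1) ≫ χ n = 0) (hc : ∀ n, χ (n + 1) ≫ lvlT 𝓘 𝔐 n = χ n)
    (hχ : ∀ n, Nonempty (IsColimit (CokernelCofork.ofπ (χ n) (w n)))) :
    Nonempty (FSch.completionMod 𝓘 F ≅ 𝔐) := by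
  haveI := hF.1
  let adj := fun n => Scheme.Modules.pullbackPushforwardAdjunction (FSch.completionToX X 𝓘 n)
  let α : ∀ n, (Scheme.Modules.pullback (FSch.completionToX X 𝓘 n)).obj F ⟶ 𝔐.F n :=
    fun n => ((adj n).homEquiv F (𝔐.F n)).symm (χ n)
  have hα : ∀ n, adjunct (FSch.completionToX X 𝓘 n) (α n) = χ n := fun n =>
    (Adjunction.homEquiv_unit _ _ _ _).symm.trans (Equiv.apply_symm_apply _ _)
  have hiso : ∀ n, IsIso (α n) := fun n => by
    haveI := epi_unit_closed (FSch.completionToX X 𝓘 n) F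
    haveI : Epi (χ n) := epi_of_isColimit_cofork (hχ n).some
    haveI : IsIso ((Scheme.Modules.pushforward (FSch.completionToX X 𝓘 n)).map (α n)) := by
      refine (OX.isIso_iff _).2 fun x => (ConcreteCategory.isIso_iff_bijective _).2 ⟨?_, ?_⟩
      · show Function.Injective (stalkLin ((Scheme.Modules.pushforward (FSch.completionToX X 𝓘 n)).map (α n)) x)
        refine (injective_iff_map_eq_zero _).2 fun a ha => ?_
        obtain ⟨v, rfl⟩ := QCoh.stalkLin_surjective ((adj n).unit.app F) x a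
        rw [← HodgeIndex.stalkLin_comp_apply] at ha
        rw [show (adj n).unit.app F ≫ _ = χ n from hα n, ker_cokernel 𝓘 hI F n (χ n) (w n) (hχ n).some,
          ← ker_stalkLin_unit (𝓘 ^ (n + 1)) F x] at ha
        exact ha
      · show Function.Surjective (stalkLin ((Scheme.Modules.pushforward (FSch.completionToX X 𝓘 n)).map (α n)) x)
        intro z
        obtain ⟨v, hv⟩ := QCoh.stalkLin_surjective (χ n) x z
        refine ⟨stalkLin ((adj n).unit.app F) x v, ?_⟩
        rw [← HodgeIndex.stalkLin_comp_apply, ← hv]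
        exact congrArg (fun k => stalkLin k x v) (hα n)
    exact K0Sub.isIso_of_isIso_push (FSch.completionToX X 𝓘 n) (α n)
  have hcomm : ∀ n, (Scheme.Modules.pullback ((FSch.completionAlong X 𝓘).ι n)).map (α (n + 1)) ≫ (𝔐.e n).hom =
      ((FSch.completionMod 𝓘 F).e n).hom ≫ α n := fun n => by
    have h : α n = lowerMap (toX_eq 𝓘 n) (α (n + 1)) (𝔐.e n) := by
      refine FFormal7.adjunct_injective _ ((hα n).trans ?_)
      rw [FFormal7.adjunct_lowerMap (toX_eq 𝓘 n), hα (n + 1)]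
      exact (hc n).symm
    rw [h]
    exact trans_lowerMap (toX_eq 𝓘 n) (toX_eq 𝓘 n).symm (α (n + 1)) (𝔐.e n) _ (completion_e' 𝓘 F n)
  exact nonempty_iso_of_app (⟨α, hcomm⟩ : FSch.completionMod 𝓘 F ⟶ 𝔐) hiso

include hI h𝔐 in
/-- The algebraization is locally free near the support. -/
theorem exists_nhd_locFree {F : X.Modules} (hF : Coh.IsCoh F) (e : FSch.completionMod 𝓘 F ≅ 𝔐) :
    ∃ (U : X.Opens) (E : (U : Scheme.{u}).Modules), (𝓘.support : Set X) ⊆ (U : Set X) ∧
      FlatMod.IsFinLocFree E ∧ Nonempty (FSch.completionMod 𝓘 ((Scheme.Modules.pushforward U.ι).obj E) ≅ 𝔐) := by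
  have hlev : ∀ n, FlatMod.IsFinLocFree ((Scheme.Modules.pullback (𝓘 ^ (n + 1)).subschemeι).obj F) := fun n =>
    HilbDesc10.isFinLocFree_congr
      ⟨e.inv.app n, e.hom.app n, congrArg (fun k => FSch.ModSys.Hom.app k n) e.inv_hom_id,
        congrArg (fun k => FSch.ModSys.Hom.app k n) e.hom_inv_id⟩ (h𝔐 n)
  let U : X.Opens := ⟨_, Ref1.isOpen_free (HomSh.hasRel_of_isCoh hF)⟩
  have hU : (𝓘.support : Set X) ⊆ (U : Set X) := fun y hy => free_stalk_of_levels hF 𝓘 hlev hy
  refine ⟨U, (Scheme.Modules.pullback U.ι).obj F, hU, ?_, ?_⟩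
  · exact HilbDesc10.isFinLocFree_congr ((Scheme.Modules.restrictFunctorIsoPullback U.ι).app F)
      (Ref1.isFinLocFree_restrict_of_free (HomSh.hasRel_of_isCoh hF) U fun x hx => hx)
  · obtain ⟨e'⟩ := nonempty_completion_iso_push 𝓘 U hU F
    exact ⟨e' ≪≫ e⟩

variable {A : Type u} [CommRing A] [IsNoetherianRing A] [X.Over (Spec (CommRingCat.of A))]
  [IsProper (X ↘ Spec (CommRingCat.of A))]

include A h𝔐 in
/-- Bundles on the completion come from bundles on neighbourhoods. -/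
theorem exists_bundle (hposAll : ∀ M : X.Modules, Coh.IsCoh M → Pos (twist 𝓘 hI) M)
    (hfree : ∀ (ν r : ℕ), Mono ((twist 𝓘 hI).μ.app (((twist 𝓘 hI).T (-(ν : ℤ))).obj (FlatMod.freeMod X r))) ∧
      Van (twist 𝓘 hI) (((twist 𝓘 hI).T (-(ν : ℤ))).obj (FlatMod.freeMod X r)) ∧
      Van (twist 𝓘 hI) (cokernel (μk (twist 𝓘 hI) (((twist 𝓘 hI).T (-(ν : ℤ))).obj (FlatMod.freeMod X r)) (0 + 1))))
    (hvan : Van (twist 𝓘 hI) (lvl 𝓘 𝔐 0)) :
    ∃ (U : X.Opens) (E : (U : Scheme.{u}).Modules), (𝓘.support : Set X) ⊆ (U : Set X) ∧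
      FlatMod.IsFinLocFree E ∧ Nonempty (FSch.completionMod 𝓘 ((Scheme.Modules.pushforward U.ι).obj E) ≅ 𝔐) := by
  obtain ⟨F, χ, w, hF, hc, hχ⟩ := exists_algebraization (A := A) hposAll hfree (lvlSys 𝓘 hI 𝔐 h𝔐) hvan
  obtain ⟨e⟩ := nonempty_iso_of_cokernel 𝓘 hI 𝔐 h𝔐 hF χ w hc hχ
  exact exists_nhd_locFree 𝓘 hI 𝔐 h𝔐 hF e

end GrothLib.LeffAmp7
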