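import Groth.Agent.Lib.LeffAmp7.System
import Groth.Agent.Lib.LefPic7.Colim
import Groth.Agent.Lib.LefAmp7.Hom
import Groth.Agent.Lib.HodgeIndex.IdealMul
import Groth.Agent.Lib.FundIso27.Iso
import Groth.Agent.Lib.CMReg.ProjSpace

/-!
# The twist by an invertible ideal, and its multiplication map on stalks
-/

set_option autoImplicit false
set_option linter.style.haveILetI false

universe u

open CategoryTheory CategoryTheory.Limits AlgebraicGeometry

noncomputable section

namespace GrothLib.LeffAmp7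

open GrothLib.QCoh (stalkLin)
open GrothLib.OmegaBC (sval)

variable {X : Scheme.{u}}

/-- A chosen invertible module in a class. -/
def rep (p : Cube.Pic X) : X.Modules := (LefPic7.exists_rep p).choose

theorem isInvertible_rep (p : Cube.Pic X) : PicF.IsInvertible (rep p) :=
  (LefPic7.exists_rep p).choose_spec.choose

theorem cls_rep (p : Cube.Pic X) : Cube.clsMod (isInvertible_rep p) = p :=
  (LefPic7.exists_rep p).choose_spec.choose_spec

theorem nonempty_rep_iso {p : Cube.Pic X} {L : X.Modules} (hL : PicF.IsInvertible L) (h : Cube.clsMod hL = p) :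
    Nonempty (rep p ≅ L) :=
  (Cube.clsMod_eq_iff (isInvertible_rep p) hL).1 ((cls_rep p).trans h.symm)

theorem nonempty_rep_mul (p q : Cube.Pic X) :
    Nonempty (CohB1.tensorMod (rep p) (rep q) ≅ rep (p * q)) :=
  (nonempty_rep_iso (Ample.isInvertible_tensorMod (isInvertible_rep p) (isInvertible_rep q))
    (by rw [Cube.clsMod_tensorMod (isInvertible_rep p) (isInvertible_rep q), cls_rep, cls_rep])).map Iso.symm

/-- Tensoring on the right. -/
abbrev tR (M : X.Modules) : X.Modules ⥤ X.Modules := (DCoh.tensorBi (X := X)).flip.obj M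

/-- Tensoring twice. -/
def tRComp (A B : X.Modules) : tR A ⋙ tR B ≅ tR (CohB1.tensorMod A B) :=
  NatIso.ofComponents (fun N => OX.tensorAssoc N A B) fun {N N'} f => by
    change ((DCoh.tensorBi (X := X)).map (((DCoh.tensorBi (X := X)).map f).app A)).app B ≫ _ =
      _ ≫ ((DCoh.tensorBi (X := X)).map f).app _
    rw [OX.tMap_left, OX.tMap_left, OX.tMap_left]
    exact (OX.tensorAssoc_natural _ _ _).trans (congrArg (_ ≫ ·) (congrArg (OX.tMap f) (OX.tMap_id A B)))

/-- Tensoring with the structure module. -/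
def tRUnit : tR (Coh.structureModule X) ≅ 𝟭 X.Modules :=
  (OX.tensorBraiding (X := X)).app _ ≪≫ OX.tensorUnitNatIso

theorem stalkLin_tmul_left {F F' : X.Modules} (f : F ⟶ F') (G : X.Modules) (x : X) (v : F.presheaf.stalk x)
    (w : G.presheaf.stalk x) :
    stalkLin (((DCoh.tensorBi (X := X)).map f).app G) x (Ref1.tmulStalk F G x v w) =
      Ref1.tmulStalk F' G x (stalkLin f x v) w := by
  obtain ⟨U₁, h₁, m, rfl⟩ := TopCat.Presheaf.exists_germ_eq F.presheaf v
  obtain ⟨U₂, h₂, n, rfl⟩ := TopCat.Presheaf.exists_germ_eq G.presheaf w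
  rw [← TopCat.Presheaf.germ_res_apply F.presheaf (homOfLE (inf_le_left : U₁ ⊓ U₂ ≤ U₁)) x ⟨h₁, h₂⟩ m,
    ← TopCat.Presheaf.germ_res_apply G.presheaf (homOfLE (inf_le_right : U₁ ⊓ U₂ ≤ U₂)) x ⟨h₁, h₂⟩ n,
    ← Ref1.germ_tmul]
  have hL := fun m' n' => (QCoh.stalkLin_germ (((DCoh.tensorBi (X := X)).map f).app G)
    (show x ∈ U₁ ⊓ U₂ from ⟨h₁, h₂⟩) (SecTwist.tmul F G (U₁ ⊓ U₂) m' n'))
  refine (hL _ _).trans ?_
  rw [QCoh.stalkLin_germ, ← Ref1.germ_tmul]
  refine congrArg (fun s => (CohB1.tensorMod F' G).presheaf.germ (U₁ ⊓ U₂) x ⟨h₁, h₂⟩ s) ?_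
  have h := OX.tmulSec_natural f (𝟙 G) (U₁ ⊓ U₂)
    (F.presheaf.map (homOfLE (inf_le_left : U₁ ⊓ U₂ ≤ U₁)).op m)
    (G.presheaf.map (homOfLE (inf_le_right : U₁ ⊓ U₂ ≤ U₂)).op n)
  rw [CategoryTheory.Functor.map_id, MonoidalCategory.tensorHom_id] at h
  exact h

variable [IsLocallyNoetherian X] (𝓘 : X.IdealSheafData) (hI : PicF.IsInvertible (ClSub.idealMod 𝓘))

/-- The chosen twisting modules. -/
abbrev twistMod (a : ℤ) : X.Modules := rep ((Cube.clsMod hI)⁻¹ ^ a)

include hI in
omit [IsLocallyNoetherian X] in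
theorem nonempty_twistMod_neg_one : Nonempty (twistMod 𝓘 hI (-1) ≅ ClSub.idealMod 𝓘) :=
  nonempty_rep_iso hI (by rw [zpow_neg_one, inv_inv])

include hI in
omit [IsLocallyNoetherian X] in
theorem nonempty_twistMod_zero : Nonempty (twistMod 𝓘 hI 0 ≅ Coh.structureModule X) :=
  nonempty_rep_iso Euler.isInvertible_structure
    (by rw [zpow_zero]; exact (Cube.clsMod_eq_one_iff _).2 ⟨Iso.refl _⟩)

include hI in
omit [IsLocallyNoetherian X] in
theorem nonempty_twistMod_add {a b c : ℤ} (h : a + b = c) :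
    Nonempty (CohB1.tensorMod (twistMod 𝓘 hI a) (twistMod 𝓘 hI b) ≅ twistMod 𝓘 hI c) := by
  obtain ⟨e⟩ := nonempty_rep_mul ((Cube.clsMod hI)⁻¹ ^ a) ((Cube.clsMod hI)⁻¹ ^ b)
  refine ⟨e ≪≫ eqToIso ?_⟩
  rw [← zpow_add, h]

/-- The map to the structure module. -/
def twistν : twistMod 𝓘 hI (-1) ⟶ Coh.structureModule X :=
  (nonempty_twistMod_neg_one 𝓘 hI).some.hom ≫ ClSub.idealModι 𝓘

/-- The twist by an invertible ideal. -/
def twist : Twist X where
  T a := tR (twistMod 𝓘 hI a)
  isEquiv a := FundIso27.isEquivalence_tensor (isInvertible_rep _)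
  zeroIso := (DCoh.tensorBi (X := X)).flip.mapIso (nonempty_twistMod_zero 𝓘 hI).some ≪≫ tRUnit
  addIso _ _ _ h := tRComp _ _ ≪≫ (DCoh.tensorBi (X := X)).flip.mapIso (nonempty_twistMod_add 𝓘 hI h).some
  coh _ _ hM := CMReg.isCoh_tensorMod hM (isInvertible_rep _)
  μ := (DCoh.tensorBi (X := X)).flip.map (twistν 𝓘 hI) ≫ tRUnit.hom

theorem twist_T (a : ℤ) : (twist 𝓘 hI).T a = tR (twistMod 𝓘 hI a) := rfl

theorem twist_μ_app (M : X.Modules) :
    (twist 𝓘 hI).μ.app M = ((DCoh.tensorBi (X := X)).obj M).map (twistν 𝓘 hI) ≫ tRUnit.hom.app M := rfl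

/-- On stalks the multiplication map is multiplication by a local equation. -/
theorem exists_stalk_μ (x : X) :
    ∃ b : X.presheaf.stalk x, Goodman.st 𝓘 x = Ideal.span {b} ∧ (∀ c, c * b = 0 → c = 0) ∧
      ∃ θ : ∀ M : X.Modules, M.presheaf.stalk x → (((twist 𝓘 hI).T (-1)).obj M).presheaf.stalk x,
        (∀ M, Function.Bijective (θ M)) ∧
        (∀ {M N : X.Modules} (f : M ⟶ N) (v : M.presheaf.stalk x),
          stalkLin (((twist 𝓘 hI).T (-1)).map f) x (θ M v) = θ N (stalkLin f x v)) ∧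
        ∀ (M : X.Modules) (v : M.presheaf.stalk x), stalkLin ((twist 𝓘 hI).μ.app M) x (θ M v) = b • v := by
  let e₁ := (nonempty_twistMod_neg_one 𝓘 hI).some
  obtain ⟨t', ht'⟩ := Ref1.exists_gen_of_isInvertible hI x
  have he₁ : Function.Bijective (stalkLin e₁.inv x) :=
    (ConcreteCategory.isIso_iff_bijective ((OX.stalk x).map e₁.inv)).1 inferInstance
  let t := stalkLin e₁.inv x t'
  have ht : Ref1.Gen (twistMod 𝓘 hI (-1)) x t := by
    have := he₁.comp ht'
    simpa [Ref1.Gen, Function.comp_def, map_smul] using this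
  let b := sval 𝓘 x t'
  have hν : stalkLin (twistν 𝓘 hI) x t = b • HomSh.unitStalk x 1 := by
    have h1 : stalkLin e₁.hom x t = t' := by
      show stalkLin e₁.hom x (stalkLin e₁.inv x t') = t'
      rw [← HodgeIndex.stalkLin_comp_apply, Iso.inv_hom_id]
      exact LinearMap.congr_fun (congrArg ModuleCat.Hom.hom ((OX.stalk x).map_id _)) t'
    rw [twistν, HodgeIndex.stalkLin_comp_apply]
    refine (congrArg (stalkLin (ClSub.idealModι 𝓘) x) h1).trans ?_
    rw [Goodman.stalkLin_idealModι, ← map_smul, smul_eq_mul, mul_one]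
  let φ : ∀ M : X.Modules, M.presheaf.stalk x → M.presheaf.stalk x := fun M v =>
    stalkLin (tRUnit.hom.app M) x (Ref1.tmulStalk M (Coh.structureModule X) x v (HomSh.unitStalk x 1))
  have hφ : ∀ M, Function.Bijective (φ M) := fun M => by
    refine Function.Bijective.comp ?_ (TensorGen.bijective_tmulStalk M _ (Ref1.gen_unitStalk x))
    exact (ConcreteCategory.isIso_iff_bijective ((OX.stalk x).map (tRUnit.hom.app M))).1 inferInstance
  have hφn : ∀ {M N : X.Modules} (f : M ⟶ N) (v : M.presheaf.stalk x),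
      stalkLin f x (φ M v) = φ N (stalkLin f x v) := fun {M N} f v => by
    have hn : ((DCoh.tensorBi (X := X)).map f).app (Coh.structureModule X) ≫ tRUnit.hom.app N =
        tRUnit.hom.app M ≫ f := tRUnit.hom.naturality f
    have hn' := LinearMap.congr_fun (congrArg (fun k => stalkLin k x) hn)
      (Ref1.tmulStalk M (Coh.structureModule X) x v (HomSh.unitStalk x 1))
    rw [HodgeIndex.stalkLin_comp_apply, HodgeIndex.stalkLin_comp_apply, stalkLin_tmul_left] at hn'
    exact hn'.symm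
  let ψ : ∀ M : X.Modules, M.presheaf.stalk x ≃ M.presheaf.stalk x := fun M => Equiv.ofBijective _ (hφ M)
  have hψn : ∀ {M N : X.Modules} (f : M ⟶ N) (v : M.presheaf.stalk x),
      stalkLin f x ((ψ M).symm v) = (ψ N).symm (stalkLin f x v) := fun {M N} f v => by
    apply (ψ N).injective
    rw [Equiv.apply_symm_apply]
    exact (hφn f _).symm.trans (congrArg (stalkLin f x) ((ψ M).apply_symm_apply v))
  refine ⟨b, ?_, ?_, fun M v => Ref1.tmulStalk M (twistMod 𝓘 hI (-1)) x ((ψ M).symm v) t, fun M => ?_,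
    fun {M N} f v => ?_, fun M v => ?_⟩
  · refine le_antisymm ?_ ((Ideal.span_singleton_le_iff_mem _).2 (LinearMap.mem_range_self _ t'))
    rintro _ ⟨w, rfl⟩
    obtain ⟨c, rfl⟩ := ht'.2 w
    exact Ideal.mem_span_singleton'.2 ⟨c, ((sval 𝓘 x).map_smul c t').symm⟩
  · intro c hc
    have h' : c • t' = (0 : X.presheaf.stalk x) • t' := OmegaBC.sval_injective 𝓘 x (by
      rw [zero_smul]
      exact ((sval 𝓘 x).map_smul c t').trans (hc.trans (map_zero _).symm))
    exact ht'.1 h'
  · exact (TensorGen.bijective_tmulStalk M _ ht).comp (ψ M).symm.bijective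
  · refine (stalkLin_tmul_left f _ x _ t).trans ?_
    rw [hψn f v]
  · refine (HodgeIndex.stalkLin_comp_apply (((DCoh.tensorBi (X := X)).obj M).map (twistν 𝓘 hI))
      (tRUnit.hom.app M) x _).trans ?_
    refine (congrArg (stalkLin (tRUnit.hom.app M) x) ((Goodman.stalkLin_tensor_tmul M (twistν 𝓘 hI) x
      ((ψ M).symm v) t).trans ((congrArg (Ref1.tmulStalk M (Coh.structureModule X) x ((ψ M).symm v)) hν).trans
        ((Ref1.tmulStalk M (Coh.structureModule X) x ((ψ M).symm v)).map_smul b _)))).trans ?_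
    refine ((stalkLin (tRUnit.hom.app M) x).map_smul b _).trans (congrArg (b • ·) ?_)
    exact (ψ M).apply_symm_apply v

end GrothLib.LeffAmp7
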