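import Groth.Agent.Lib.LeffAmp7.Field
import Groth.Agent.Lib.LefEt7.Sec
import Groth.Prelude.Def_Lef

/-!
# The graded pieces of the powers of an invertible ideal
-/

set_option autoImplicit false
set_option linter.style.haveILetI false

universe u

open CategoryTheory CategoryTheory.Limits AlgebraicGeometry

noncomputable section

namespace GrothLib.LeffAmp7

open GrothLib.QCoh (stalkLin)

variable {X : Scheme.{u}} [IsLocallyNoetherian X] (𝓘 : X.IdealSheafData)
  (hI : PicF.IsInvertible (ClSub.idealMod 𝓘))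

/-- The structure module modulo a power is the structure module of the thickening. -/
theorem exists_quot_iso (n : ℕ) : ∃ ε : cokernel (μk (twist 𝓘 hI) (Coh.structureModule X) (n + 1)) ≅
      ClSub.quotMod (X := X) (𝓘 ^ (n + 1)),
    cokernel.π (μk (twist 𝓘 hI) (Coh.structureModule X) (n + 1)) ≫ ε.hom = ClSub.toSubscheme (𝓘 ^ (n + 1)) := by
  let O := Coh.structureModule X
  let η := ClSub.toSubscheme (𝓘 ^ (n + 1))
  haveI : Epi η := Euler.epi_toSubscheme _
  have hk : ∀ x v, stalkLin η x v = 0 ↔ stalkLin (cokernel.π (μk (twist 𝓘 hI) O (n + 1))) x v = 0 := fun x v => by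
    rw [ker_cokernel 𝓘 hI O n _ (cokernel.condition _) (cokernelIsCokernel _)]
    have he := (ShortComplex.ShortExact.moduleCat_exact_iff_function_exact _).1
      ((OX.exact_iff _).1 (ConnH0.shortExact_ideal (𝓘 ^ (n + 1))).exact x) v
    refine he.trans ?_
    show v ∈ LinearMap.range (stalkLin (ClSub.idealModι (𝓘 ^ (n + 1))) x) ↔ _
    rw [HodgeIndex.range_idealModι]
    constructor
    · rintro ⟨a, ha, rfl⟩
      rw [show (HomSh.unitStalk x).toLinearMap a = a • HomSh.unitStalk x 1 from by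
        rw [← map_smul, smul_eq_mul, mul_one]; rfl]
      exact Submodule.smul_mem_smul ha trivial
    · intro hv
      refine Submodule.smul_induction_on hv (fun a ha m _ => ?_) (fun a b ha hb => Submodule.add_mem _ ha hb)
      obtain ⟨c, rfl⟩ := (HomSh.unitStalk x).surjective m
      exact ⟨a * c, Ideal.mul_mem_right _ _ ha, by
        rw [← smul_eq_mul]; exact (HomSh.unitStalk x).map_smul a c⟩
  have hw : μk (twist 𝓘 hI) O (n + 1) ≫ η = 0 := stalkLin_map_eq_zero _ fun x v => by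
    rw [HodgeIndex.stalkLin_comp_apply, hk, ← HodgeIndex.stalkLin_comp_apply, cokernel.condition,
      Kodaira.stalkLin_zero_apply]
  haveI : Epi (cokernel.desc _ η hw) := epi_of_epi_fac (cokernel.π_desc _ η hw)
  haveI : Mono (cokernel.desc _ η hw) := (OX.mono_iff _).2 fun x => (ModuleCat.mono_iff_injective _).2 (by
    show Function.Injective (stalkLin (cokernel.desc _ η hw) x)
    refine (injective_iff_map_eq_zero _).2 fun a ha => ?_
    obtain ⟨v, rfl⟩ := QCoh.stalkLin_surjective (cokernel.π (μk (twist 𝓘 hI) O (n + 1))) x a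
    rw [← HodgeIndex.stalkLin_comp_apply, cokernel.π_desc, hk] at ha
    exact ha)
  haveI : IsIso (cokernel.desc _ η hw) := isIso_of_mono_of_epi _
  exact ⟨asIso (cokernel.desc _ η hw), cokernel.π_desc _ η hw⟩

include hI in
/-- The graded pieces are the twists of the structure module of the divisor. -/
theorem nonempty_kernel_quotMap (n : ℕ) :
    Nonempty (kernel (Lef.quotMap (Lef.pow_succ_le 𝓘 n)) ≅
      ((DCoh.tensorBi (X := X)).obj (CohB1.tensorPow (ClSub.idealMod 𝓘) (n + 1))).obj (ClSub.quotMod 𝓘)) := by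
  have hO : FlatMod.IsFinLocFree (Coh.structureModule X) :=
    Euler.isFinLocFree_of_isInvertible Euler.isInvertible_structure
  haveI := mono_μ_of_locFree 𝓘 hI hO
  obtain ⟨κ, w, hκ⟩ := (truncSys (twist 𝓘 hI) (Coh.structureModule X) (Euler.isCoh_of_isFinLocFree hO)).exists_kernel n
  obtain ⟨ε₁, h₁⟩ := exists_quot_iso 𝓘 hI (n + 1)
  obtain ⟨ε₀, h₀⟩ := exists_quot_iso 𝓘 hI n
  obtain ⟨ε, -⟩ := exists_quot_iso 𝓘 hI 0
  have hsq : trT (twist 𝓘 hI) (Coh.structureModule X) n ≫ ε₀.hom =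
      ε₁.hom ≫ Lef.quotMap (Lef.pow_succ_le 𝓘 n) := by
    refine (cancel_epi (cokernel.π (μk (twist 𝓘 hI) (Coh.structureModule X) (n + 1 + 1)))).1 ?_
    rw [cokernel.π_desc_assoc, h₀, ← Category.assoc, h₁]
    exact (LefEt7.toSubscheme_quotMap (Lef.pow_succ_le 𝓘 n)).symm
  obtain ⟨e⟩ := nonempty_twistMod_neg 𝓘 hI (n + 1)
  let i₁ : kernel (Lef.quotMap (Lef.pow_succ_le 𝓘 n)) ≅ kernel (trT (twist 𝓘 hI) (Coh.structureModule X) n) :=
    (kernel.mapIso _ _ ε₁ ε₀ hsq).symm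
  haveI := hκ.mono_f
  let i₂ : kernel (trT (twist 𝓘 hI) (Coh.structureModule X) n) ≅
      ((twist 𝓘 hI).T (-((n : ℤ) + 1))).obj (cokernel (μk (twist 𝓘 hI) (Coh.structureModule X) (0 + 1))) :=
    (limit.isLimit _).conePointUniqueUpToIso hκ.fIsKernel
  let i₃ : ((twist 𝓘 hI).T (-((n : ℤ) + 1))).obj (ClSub.quotMod (X := X) (𝓘 ^ (0 + 1))) ≅
      CohB1.tensorMod (ClSub.quotMod 𝓘) (CohB1.tensorPow (ClSub.idealMod 𝓘) (n + 1)) :=
    ((twist 𝓘 hI).T (-((n : ℤ) + 1))).mapIso (eqToIso (congrArg (fun J => ClSub.quotMod (X := X) J)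
        (by rw [zero_add, pow_one]))) ≪≫
      ((DCoh.tensorBi (X := X)).obj (ClSub.quotMod 𝓘)).mapIso
        (eqToIso (congrArg (twistMod 𝓘 hI) (by push_cast; rfl)) ≪≫ e)
  let i₄ : CohB1.tensorMod (ClSub.quotMod 𝓘) (CohB1.tensorPow (ClSub.idealMod 𝓘) (n + 1)) ≅
      ((DCoh.tensorBi (X := X)).obj (CohB1.tensorPow (ClSub.idealMod 𝓘) (n + 1))).obj (ClSub.quotMod 𝓘) :=
    ((OX.tensorBraiding (X := X)).app (CohB1.tensorPow (ClSub.idealMod 𝓘) (n + 1))).app (ClSub.quotMod 𝓘)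
  exact ⟨i₁ ≪≫ i₂ ≪≫ ((twist 𝓘 hI).T (-((n : ℤ) + 1))).mapIso ε ≪≫ i₃ ≪≫ i₄⟩

end GrothLib.LeffAmp7
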