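import Groth.Agent.Lib.LeffAmp7.Conclude
import Groth.Agent.Lib.NegVan7.Main
import Groth.Agent.Lib.SerreVanish.Ample
import Groth.Agent.Lib.Ample.Generation
import Groth.Agent.Lib.CurveMult.GGCurve
import Groth.Agent.Lib.Snapper.Intersection
import Groth.Agent.Lib.LocZ25.Sections

/-!
# Bundles on the completion along an ample divisor over a field
-/

set_option autoImplicit false
set_option linter.style.haveILetI false

universe u

open CategoryTheory CategoryTheory.Limits AlgebraicGeometry TopologicalSpace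

noncomputable section

namespace GrothLib.LeffAmp7

open GrothLib.QCoh (stalkLin)

variable {X : Scheme.{u}} (k : Type u) [Field k] [X.Over (Spec (CommRingCat.of k))]
  [IsProper (X ↘ Spec (CommRingCat.of k))] [IsLocallyNoetherian X] {L : X.Modules} (hamp : CohB1.IsAmple L)

include k hamp in
/-- Vanishing for large negative twists gives depth at closed points. -/
theorem depth_of_vanish {M : X.Modules} (hinv : ClSub.IsInverseOf L M) {F : X.Modules} (hF : Coh.IsCoh F) (n : ℕ)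
    (h : ∃ m₀ : ℕ, ∀ m : ℕ, m₀ ≤ m → ∀ i : ℕ, i ≤ n →
      Subsingleton (Coh.HH X (CohB1.tensorMod F (CohB1.tensorPow M m)) i)) :
    ∀ x : X, IsClosed ({x} : Set X) → (n : ℕ∞) < LocCoh.depth (X.presheaf.stalk x) (F.presheaf.stalk x) := by
  obtain ⟨r, N, ι, hr, hc, hι, ⟨θ⟩⟩ := DecSh20.exists_embedding k hamp
  haveI := hc
  haveI : IsNoetherianRing k := inferInstance
  have hM := NegVan7.isInvertible_of_inverse k hamp.1 hinv
  obtain ⟨m₀, hm₀⟩ := h
  have hPv : ∃ q₀ : ℤ, ∀ q : ℤ, q₀ ≤ q → ∀ i : ℕ, i ≤ n →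
      Subsingleton (Coh.HH (CohB1.ProjSpace N k)
        (Twist.twistBy _ ((Scheme.Modules.pushforward ι).obj F) (-q)) i) := by
    refine ⟨(m₀ : ℤ), fun q hq i hi => ?_⟩
    obtain ⟨q', rfl⟩ := Int.eq_ofNat_of_zero_le ((Int.natCast_nonneg m₀).trans hq)
    have hle : m₀ ≤ q' * r := (Int.ofNat_le.1 hq).trans (Nat.le_mul_of_pos_right q' hr)
    have htw := CMReg.isInvertible_twist (n := N) (k := k) (-(q' : ℤ))
    have hqr := Ample.isInvertible_tensorPow hM (q' * r)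
    obtain ⟨g⟩ : Nonempty (CohB1.tensorPow M (q' * r) ≅
        (Scheme.Modules.pullback ι).obj (Twist.twistProjSpace N k (-(q' : ℤ)))) := by
      refine (Cube.clsMod_eq_iff hqr (Ample.isInvertible_pullback ι htw)).1 ?_
      have h1 : Cube.clsMod hamp.1 ^ r =
          Cube.pull ι (Cube.clsMod (CMReg.isInvertible_twist (n := N) (k := k) 1)) := by
        rw [← Cube.clsMod_tensorPow hamp.1, ← Cube.clsMod_pullback ι]
        exact (Cube.clsMod_eq_iff _ _).2 ⟨θ⟩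
      rw [Cube.clsMod_tensorPow hM, NegVan7.clsMod_of_inverse hamp.1 hM hinv, Cube.clsMod_pullback ι htw,
        NegVan7.clsMod_twist N k q', map_inv, map_pow, ← h1, inv_pow, ← pow_mul, mul_comm r q']
    obtain ⟨T'⟩ := Regularity.nonempty_push_tensor ι (Euler.isFinLocFree_of_isInvertible htw) F g
    haveI : (CohB1.tensorMod F (CohB1.tensorPow M (q' * r))).IsQuasicoherent := (CMReg.isCoh_tensorMod hF hqr).1
    obtain ⟨e⟩ := Snapper.nonempty_HH_linearEquiv_pushforward (A := k) ι hι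
      (CohB1.tensorMod F (CohB1.tensorPow M (q' * r))) i
    haveI := hm₀ (q' * r) hle i hi
    exact (Euler.hhEquiv (A := k) T' i).toEquiv.subsingleton_congr.1 e.toEquiv.symm.subsingleton
  intro x hx
  have hy : IsClosed ({ι x} : Set (CohB1.ProjSpace N k)) := by
    rw [← Set.image_singleton]
    exact ι.isClosedEmbedding.isClosedMap _ hx
  have := (Groth.Agent.S2928.result k N _ (FormalExist7.isCoh_pushforward ι hF) n).1 hPv (ι x) hy
  rwa [NegVan7.depth_stalk_push ι hF (FormalExist7.isCoh_pushforward ι hF) x] at this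

variable (𝓘 : X.IdealSheafData) (hI : PicF.IsInvertible (ClSub.idealMod 𝓘))
  (hL : ClSub.IsInverseOf L (ClSub.idealMod 𝓘))

include hI in
omit [IsLocallyNoetherian X] in
theorem nonempty_twistMod_neg (m : ℕ) :
    Nonempty (twistMod 𝓘 hI (-(m : ℤ)) ≅ CohB1.tensorPow (ClSub.idealMod 𝓘) m) :=
  nonempty_rep_iso (Ample.isInvertible_tensorPow hI m) (by
    rw [Cube.clsMod_tensorPow hI, inv_zpow', neg_neg, zpow_natCast])

include hamp hI hL in
omit [IsLocallyNoetherian X] in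
theorem nonempty_twistMod_nat (ν : ℕ) : Nonempty (twistMod 𝓘 hI (ν : ℤ) ≅ CohB1.tensorPow L ν) :=
  nonempty_rep_iso (Ample.isInvertible_tensorPow hamp.1 ν) (by
    rw [Cube.clsMod_tensorPow hamp.1, zpow_natCast, NegVan7.clsMod_of_inverse hamp.1 hI hL, inv_inv])

include k hamp hL in
theorem van_of_depth {F : X.Modules} (hF : Coh.IsCoh F)
    (hd : ∀ x : X, IsClosed ({x} : Set X) → (2 : ℕ∞) ≤ LocCoh.depth (X.presheaf.stalk x) (F.presheaf.stalk x)) :
    Van (twist 𝓘 hI) F := by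
  obtain ⟨m₀, hm₀⟩ := NegVan7.eventually_vanish k hamp hL hF 1 fun x hx =>
    lt_of_lt_of_le (by norm_num) (hd x hx)
  refine ⟨m₀, fun m hm i hi => ?_⟩
  obtain ⟨e⟩ := nonempty_twistMod_neg 𝓘 hI m
  haveI := hm₀ m hm i hi
  let j : ((twist 𝓘 hI).T (-(m : ℤ))).obj F ≅ CohB1.tensorMod F (CohB1.tensorPow (ClSub.idealMod 𝓘) m) :=
    ((DCoh.tensorBi (X := X)).obj F).mapIso e
  exact (Euler.hhEquiv (A := k) j i).toEquiv.subsingleton

include k hamp hL in
/-- Large twists by an ample inverse. -/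
theorem pos_of_ample {M : X.Modules} (hM : Coh.IsCoh M) : Pos (twist 𝓘 hI) M := by
  haveI := Euler.isNoetherian_of_proper (X := X) k
  obtain ⟨n₀, hn₀⟩ := SerreVanish.exists_forall_subsingleton (A := k) hamp hM
  obtain ⟨c, ⟨e⟩⟩ := Ample.exists_cocycle hamp.1
  haveI := hM.1
  obtain ⟨n₁, hn₁⟩ := c.eventually_isGloballyGenerated M ((c.isAmple_iff e).1 hamp).2
    (fun _ => ⟨⊤, trivial, fun W hW _ => FormalExist7.moduleFinite_sections_of_isCoh hM hW⟩)
  refine ⟨max n₀ n₁, fun ν hν => ?_⟩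
  obtain ⟨τ⟩ := nonempty_twistMod_nat hamp 𝓘 hI hL ν
  obtain ⟨d⟩ := c.nonempty_tensorPow_iso e ν
  obtain ⟨t⟩ := c.nonempty_tensor_modTwist M ν
  let j : ((twist 𝓘 hI).T (ν : ℤ)).obj M ≅ CohB1.tensorMod M (CohB1.tensorPow L ν) :=
    ((DCoh.tensorBi (X := X)).obj M).mapIso τ
  refine ⟨?_, ?_⟩
  · haveI := hn₀ ν ((le_max_left _ _).trans hν) 1 le_rfl
    exact (Euler.hhEquiv (A := k) j 1).toEquiv.subsingleton
  · let w := ((DCoh.tensorBi (X := X)).obj M).mapIso d ≪≫ t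
    have hgg := Ample.isGloballyGenerated_of_iso w.symm (hn₁ ν ((le_max_right _ _).trans hν))
    obtain ⟨r, p, hp⟩ := CurveMult.exists_epi_freeMod
      (QCoh.isCoh_of_iso w.symm (Euler.isCoh_modTwist c hM ν)) hgg
    haveI := hp
    exact ⟨r, p ≫ j.inv, inferInstance⟩

omit k in
/-- Multiplication is injective on bundles. -/
theorem mono_μ_of_locFree {P : X.Modules} (hP : FlatMod.IsFinLocFree P) : Mono ((twist 𝓘 hI).μ.app P) := by
  refine (OX.mono_iff _).2 fun x => (ModuleCat.mono_iff_injective _).2 ?_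
  show Function.Injective (stalkLin ((twist 𝓘 hI).μ.app P) x)
  obtain ⟨b, hb, hb0, θ, hθ, hθn, hθμ⟩ := exists_stalk_μ 𝓘 hI x
  intro p q hpq
  obtain ⟨v, rfl⟩ := (hθ P).2 p
  obtain ⟨w, rfl⟩ := (hθ P).2 q
  rw [hθμ, hθμ] at hpq
  obtain ⟨D, n, e, hx, he⟩ := FinCov.exists_frame_nhd hP x
  obtain ⟨bas⟩ := Euler.stalk_basis_of_frame he hx
  refine congrArg (θ P) (bas.ext_elem fun i => sub_eq_zero.1 (hb0 _ ?_))
  have := congrArg (fun z => bas.repr z i) hpq
  simp only [map_smul, Finsupp.smul_apply, smul_eq_mul] at this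
  rw [sub_mul, sub_eq_zero, mul_comm _ b, mul_comm _ b]
  exact this

omit k in
/-- A bundle modulo the ideal is the direct image of its restriction. -/
theorem nonempty_coker_μk_iso {P : X.Modules} [P.IsQuasicoherent] :
    Nonempty (cokernel (μk (twist 𝓘 hI) P (0 + 1)) ≅ (Scheme.Modules.pushforward (𝓘 ^ (0 + 1)).subschemeι).obj
      ((Scheme.Modules.pullback (𝓘 ^ (0 + 1)).subschemeι).obj P)) := by
  let η := (Scheme.Modules.pullbackPushforwardAdjunction (𝓘 ^ (0 + 1)).subschemeι).unit.app P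
  haveI : Epi η := epi_unit_closed (𝓘 ^ (0 + 1)).subschemeι P
  have hk : ∀ x v, stalkLin η x v = 0 ↔ stalkLin (cokernel.π (μk (twist 𝓘 hI) P (0 + 1))) x v = 0 := fun x v => by
    rw [ker_cokernel 𝓘 hI P 0 _ (cokernel.condition _) (cokernelIsCokernel _), ← ker_stalkLin_unit (𝓘 ^ (0 + 1)) P x]
    exact LinearMap.mem_ker.symm
  have hw : μk (twist 𝓘 hI) P (0 + 1) ≫ η = 0 := stalkLin_map_eq_zero _ fun x v => by
    rw [HodgeIndex.stalkLin_comp_apply, hk, ← HodgeIndex.stalkLin_comp_apply, cokernel.condition,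
      Kodaira.stalkLin_zero_apply]
  haveI : Epi (cokernel.desc _ η hw) := epi_of_epi_fac (cokernel.π_desc _ η hw)
  haveI : Mono (cokernel.desc _ η hw) := (OX.mono_iff _).2 fun x => (ModuleCat.mono_iff_injective _).2 (by
    show Function.Injective (stalkLin (cokernel.desc _ η hw) x)
    refine (injective_iff_map_eq_zero _).2 fun a ha => ?_
    obtain ⟨v, rfl⟩ := QCoh.stalkLin_surjective (cokernel.π (μk (twist 𝓘 hI) P (0 + 1))) x a
    rw [← HodgeIndex.stalkLin_comp_apply, cokernel.π_desc, hk] at ha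
    exact ha)
  haveI : IsIso (cokernel.desc _ η hw) := isIso_of_mono_of_epi _
  exact ⟨asIso (cokernel.desc _ η hw)⟩

theorem depth_lvl0 (hY : ∀ x : X, IsClosed ({x} : Set X) →
    (2 : ℕ∞) ≤ LocCoh.depth (X.presheaf.stalk x) ((ClSub.quotMod (X := X) (𝓘 ^ (0 + 1))).presheaf.stalk x))
    {E : ((𝓘 ^ (0 + 1)).subscheme).Modules} (hE : FlatMod.IsFinLocFree E) (x : X) (hx : IsClosed ({x} : Set X)) :
    (2 : ℕ∞) ≤ LocCoh.depth (X.presheaf.stalk x)
      (((Scheme.Modules.pushforward (𝓘 ^ (0 + 1)).subschemeι).obj E).presheaf.stalk x) := by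
  let i := (𝓘 ^ (0 + 1)).subschemeι
  by_cases hr : x ∈ Set.range i
  · obtain ⟨z, rfl⟩ := hr
    have hE' := Euler.isCoh_of_isFinLocFree hE
    have hO : FlatMod.IsFinLocFree (Coh.structureModule (𝓘 ^ (0 + 1)).subscheme) :=
      Euler.isFinLocFree_of_isInvertible Euler.isInvertible_structure
    have hO' := Euler.isCoh_of_isFinLocFree hO
    haveI : IsLocallyNoetherian (𝓘 ^ (0 + 1)).subscheme := LocallyOfFiniteType.isLocallyNoetherian i
    rw [NegVan7.depth_stalk_push i hE' (FormalExist7.isCoh_pushforward i hE') z]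
    refine le_trans ?_ (LocZ25.depth_ge_of_isFinLocFree hE z)
    have h2 := hY (i z) hx
    rw [NegVan7.depth_stalk_push i hO' (FormalExist7.isCoh_pushforward i hO') z] at h2
    refine h2.trans (le_of_eq ?_)
    exact Depth17.idealDepth_congr _ (HomSh.unitStalk z).symm
  · haveI : Subsingleton (((Scheme.Modules.pushforward i).obj E).presheaf.stalk x) :=
      QCoh.stalk_subsingleton_of_notMem fun h => hr (QCoh.support_pushforward_subset_range i _ h)
    rw [Depth.depth_eq_top_of_subsingleton]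
    exact le_top

include k hamp hL in
/-- Bundles on the completion along an ample divisor come from bundles on neighbourhoods. -/
theorem exists_bundle_of_ample
    (hdepth : ∀ x : X, IsClosed ({x} : Set X) → (2 : ℕ∞) ≤ LocCoh.depth (X.presheaf.stalk x) (X.presheaf.stalk x))
    (hY : ∀ x : X, IsClosed ({x} : Set X) →
      (2 : ℕ∞) ≤ LocCoh.depth (X.presheaf.stalk x) ((ClSub.quotMod (X := X) (𝓘 ^ (0 + 1))).presheaf.stalk x))
    (𝔐 : FSch.ModSys (FSch.completionAlong X 𝓘)) (h𝔐 : LefX.LevelwiseFinLocFree 𝔐) :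
    ∃ (U : X.Opens) (E : (U : Scheme.{u}).Modules), (𝓘.support : Set X) ⊆ (U : Set X) ∧
      FlatMod.IsFinLocFree E ∧ Nonempty (FSch.completionMod 𝓘 ((Scheme.Modules.pushforward U.ι).obj E) ≅ 𝔐) := by
  have hI := LefAmp7.isInvertible_idealMod_of_inverse hamp.1 hL
  refine exists_bundle 𝓘 hI 𝔐 h𝔐 (A := k) (fun M hM => pos_of_ample k hamp 𝓘 hI hL hM) (fun ν r => ?_)
    (van_of_depth k hamp 𝓘 hI hL (isCoh_lvl 𝓘 𝔐 h𝔐 0) fun x hx => depth_lvl0 𝓘 hY (h𝔐 0) x hx)
  let P := ((twist 𝓘 hI).T (-(ν : ℤ))).obj (FlatMod.freeMod X r)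
  have hP : FlatMod.IsFinLocFree P := OX.isFinLocFree_tensor (OX.isFinLocFree_freeMod X r)
    (Euler.isFinLocFree_of_isInvertible (isInvertible_rep _))
  have hPc := Euler.isCoh_of_isFinLocFree hP
  haveI := hPc.1
  refine ⟨mono_μ_of_locFree 𝓘 hI hP,
    van_of_depth k hamp 𝓘 hI hL hPc fun x hx => (hdepth x hx).trans (LocZ25.depth_ge_of_isFinLocFree hP x), ?_⟩
  obtain ⟨e⟩ := nonempty_coker_μk_iso 𝓘 hI (P := P)
  have hcok : Coh.IsCoh (cokernel (μk (twist 𝓘 hI) P (0 + 1))) :=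
    QCoh.isCoh_cokernel _ ((twist 𝓘 hI).coh _ _ hPc) hPc
  refine van_of_depth k hamp 𝓘 hI hL hcok fun x hx => ?_
  refine (depth_lvl0 𝓘 hY (OX.isFinLocFree_pullback (𝓘 ^ (0 + 1)).subschemeι hP) x hx).trans (le_of_eq ?_)
  exact Depth17.idealDepth_congr _ ((OX.stalk x).mapIso e.symm).toLinearEquiv

include k in
omit [IsLocallyNoetherian X] in
theorem subsingleton_HH0_X₃ {S : ShortComplex X.Modules} (hS : S.ShortExact)
    (h0 : Subsingleton (Coh.HH X S.X₂ 0)) (h1 : Subsingleton (Coh.HH X S.X₁ 1)) :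
    Subsingleton (Coh.HH X S.X₃ 0) := by
  refine subsingleton_of_forall_eq 0 fun z => ?_
  obtain ⟨w, rfl⟩ := (Cohom.exact₃ (A := k) hS 0 z).1 (@Subsingleton.elim _ h1 _ _)
  have hw : w = 0 := @Subsingleton.elim _ h0 _ _
  subst hw
  exact map_zero _

theorem shortExact_ideal_twist (m : ℕ) :
    ∃ S : ShortComplex X.Modules, S.ShortExact ∧
      S.X₁ = ((twist 𝓘 hI).T (-(m : ℤ))).obj (ClSub.idealMod 𝓘) ∧
      S.X₂ = ((twist 𝓘 hI).T (-(m : ℤ))).obj (Coh.structureModule X) ∧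
      S.X₃ = ((twist 𝓘 hI).T (-(m : ℤ))).obj (ClSub.quotMod 𝓘) :=
  ⟨_, (twist 𝓘 hI).shortExact_map (-(m : ℤ)) (ConnH0.shortExact_ideal 𝓘), rfl, rfl, rfl⟩

include k hamp hL in
theorem eventually_quot
    (hdepth : ∀ x : X, IsClosed ({x} : Set X) → (2 : ℕ∞) ≤ LocCoh.depth (X.presheaf.stalk x) (X.presheaf.stalk x))
    (m₁ : ℕ) (hm₁ : ∀ m : ℕ, m₁ ≤ m → Subsingleton (Coh.HH X
      ((DCoh.tensorBi.obj (CohB1.tensorPow (ClSub.idealMod 𝓘) m)).obj (ClSub.quotMod 𝓘)) 1)) :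
    ∃ m₀ : ℕ, ∀ m : ℕ, m₀ ≤ m → ∀ i : ℕ, i ≤ 1 →
      Subsingleton (Coh.HH X (CohB1.tensorMod (ClSub.quotMod 𝓘) (CohB1.tensorPow (ClSub.idealMod 𝓘) m)) i) := by
  have hI := LefAmp7.isInvertible_idealMod_of_inverse hamp.1 hL
  have hO : FlatMod.IsFinLocFree (Coh.structureModule X) :=
    Euler.isFinLocFree_of_isInvertible Euler.isInvertible_structure
  have hIf : FlatMod.IsFinLocFree (ClSub.idealMod 𝓘) := Euler.isFinLocFree_of_isInvertible hI
  have hd : ∀ {F : X.Modules}, FlatMod.IsFinLocFree F → ∀ x : X, IsClosed ({x} : Set X) →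
      (2 : ℕ∞) ≤ LocCoh.depth (X.presheaf.stalk x) (F.presheaf.stalk x) := fun hF x hx =>
    (hdepth x hx).trans (LocZ25.depth_ge_of_isFinLocFree hF x)
  obtain ⟨a, ha⟩ := van_of_depth k hamp 𝓘 hI hL (Euler.isCoh_of_isFinLocFree hO) (hd hO)
  obtain ⟨b, hb⟩ := van_of_depth k hamp 𝓘 hI hL (Euler.isCoh_of_isFinLocFree hIf) (hd hIf)
  refine ⟨max (max a b) m₁, fun m hm i hi => ?_⟩
  obtain ⟨e⟩ := nonempty_twistMod_neg 𝓘 hI m
  interval_cases i
  · let j : CohB1.tensorMod (ClSub.quotMod 𝓘) (CohB1.tensorPow (ClSub.idealMod 𝓘) m) ≅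
        ((twist 𝓘 hI).T (-(m : ℤ))).obj (ClSub.quotMod 𝓘) :=
      ((DCoh.tensorBi (X := X)).obj (ClSub.quotMod 𝓘)).mapIso e.symm
    obtain ⟨S, hS, h₁, h₂, h₃⟩ := shortExact_ideal_twist 𝓘 hI m
    haveI : Subsingleton (Coh.HH X (((twist 𝓘 hI).T (-(m : ℤ))).obj (ClSub.quotMod 𝓘)) 0) := by
      rw [← h₃]
      exact subsingleton_HH0_X₃ k hS (h₂ ▸ ha m (by omega) 0 zero_le_one) (h₁ ▸ hb m (by omega) 1 le_rfl)
    exact (Euler.hhEquiv (A := k) j 0).toEquiv.subsingleton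
  · let β : CohB1.tensorMod (ClSub.quotMod 𝓘) (CohB1.tensorPow (ClSub.idealMod 𝓘) m) ≅
        ((DCoh.tensorBi (X := X)).obj (CohB1.tensorPow (ClSub.idealMod 𝓘) m)).obj (ClSub.quotMod 𝓘) :=
      ((OX.tensorBraiding (X := X)).app (CohB1.tensorPow (ClSub.idealMod 𝓘) m)).app (ClSub.quotMod 𝓘)
    haveI := hm₁ m (by omega)
    exact (Euler.hhEquiv (A := k) β 1).toEquiv.subsingleton

include k hamp hL hI in
/-- The depth of an ample divisor from the vanishing of its cohomology in degree one. -/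
theorem depth_quot_of_vanish
    (hdepth : ∀ x : X, IsClosed ({x} : Set X) → (2 : ℕ∞) ≤ LocCoh.depth (X.presheaf.stalk x) (X.presheaf.stalk x))
    (hH : ∃ m₁ : ℕ, ∀ m : ℕ, m₁ ≤ m → Subsingleton (Coh.HH X
      ((DCoh.tensorBi.obj (CohB1.tensorPow (ClSub.idealMod 𝓘) m)).obj (ClSub.quotMod 𝓘)) 1)) :
    ∀ x : X, IsClosed ({x} : Set X) →
      (2 : ℕ∞) ≤ LocCoh.depth (X.presheaf.stalk x) ((ClSub.quotMod (X := X) (𝓘 ^ (0 + 1))).presheaf.stalk x) := by
  have h1 : ∀ J : X.IdealSheafData, J = 𝓘 → ∀ x : X, IsClosed ({x} : Set X) →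
      (2 : ℕ∞) ≤ LocCoh.depth (X.presheaf.stalk x) ((ClSub.quotMod J).presheaf.stalk x) := by
    rintro J rfl
    obtain ⟨m₁, hm₁⟩ := hH
    have hlt := depth_of_vanish k hamp hL (Snapper.isCoh_quotMod k J) 1
      (eventually_quot k hamp J hL hdepth m₁ hm₁)
    exact fun x hx => Order.add_one_le_of_lt (hlt x hx)
  exact h1 _ (by rw [zero_add, pow_one])

end GrothLib.LeffAmp7
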