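import Groth.Agent.Lib.LeffAmp7.System
import Groth.Agent.Lib.ProjCoh.Finite
import Groth.Agent.Lib.FormalFn.Push
import Groth.Agent.Lib.Cohom.LinearLES
import Groth.Agent.Lib.FormalFun.Basic
import Groth.Agent.Lib.Euler.Basic
import Groth.Agent.Lib.DegDet.Stalk
import Groth.Agent.Lib.OX.LocalLift

/-!
# Lifting sections of large twists to every thickening
-/

set_option autoImplicit false
set_option linter.style.haveILetI false

universe u

open CategoryTheory CategoryTheory.Limits AlgebraicGeometry Opposite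

noncomputable section

namespace GrothLib.LeffAmp7

open GrothLib.Cohom GrothLib.FormalFun

/-- A sequence with surjective maps eventually contains compatible families through any element. -/
theorem exists_family : ∀ (M : ℕ) (H : ℕ → Type u) (f : ∀ n, H (n + 1) → H n),
    (∀ n, M ≤ n → Function.Surjective (f n)) → ∀ x : H M, ∃ y : ∀ n, H n, y M = x ∧ ∀ n, f n (y (n + 1)) = y n := by
  intro M
  induction M with
  | zero =>
    intro H f hf x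
    let y : ∀ n, H n := fun n => Nat.rec x (fun n z => (hf n (Nat.zero_le n) z).choose) n
    exact ⟨y, rfl, fun n => (hf n (Nat.zero_le n) (y n)).choose_spec⟩
  | succ M ih =>
    intro H f hf x
    obtain ⟨y, hy, hc⟩ := ih (fun n => H (n + 1)) (fun n => f (n + 1))
      (fun n hn => hf (n + 1) (Nat.succ_le_succ hn)) x
    refine ⟨fun n => match n with
      | 0 => f 0 (y 0)
      | n + 1 => y n, hy, fun n => ?_⟩
    cases n with
    | zero => rfl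
    | succ n => exact hc n

variable {A : Type u} [CommRing A] [IsNoetherianRing A] {X : Scheme.{u}} [X.Over (Spec (CommRingCat.of A))]

/-- A global section as a cohomology class. -/
def toH {M : X.Modules} (f : Coh.structureModule X ⟶ M) : Coh.HH X M 0 :=
  (Cohom.HEquivTop (Coh.toAb M) 0).symm ((Cohom.H0Equiv (Coh.toAb M) ⊤).symm
    (f.val.app (op ⊤) (1 : X.ringCatSheaf.obj.obj (op ⊤))))

omit [IsNoetherianRing A] [X.Over (Spec (CommRingCat.of A))] in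
theorem H0Equiv_comp {T : TopCat.{u}} {F G : Cohom.AbSheaf T} (φ : F ⟶ G) {U : TopologicalSpace.Opens T}
    (x : Abelian.Ext.{u} (Cohom.freeFun.obj U) F 0) :
    Cohom.H0Equiv G U (x.comp (Abelian.Ext.mk₀ φ) (add_zero 0)) = φ.hom.app (op U) (Cohom.H0Equiv F U x) := by
  obtain ⟨ψ, rfl⟩ := (Abelian.Ext.mk₀_bijective _ _).surjective x
  rw [Abelian.Ext.mk₀_comp_mk₀, Cohom.H0Equiv_mk₀, Cohom.H0Equiv_mk₀, Cohom.sectionsEquiv_comp]

omit [IsNoetherianRing A] in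
theorem hhMap_toH {M N : X.Modules} (f : Coh.structureModule X ⟶ M) (φ : M ⟶ N) :
    hhMap A φ 0 (toH f) = toH (f ≫ φ) := by
  apply (Cohom.HEquivTop (Coh.toAb N) 0).injective
  rw [hhMap_apply]
  refine (FormalFn.HEquivTop_map _ 0 _).trans ?_
  simp only [toH, AddEquiv.apply_symm_apply]
  apply (Cohom.H0Equiv (Coh.toAb N) ⊤).injective
  erw [H0Equiv_comp, AddEquiv.apply_symm_apply, AddEquiv.apply_symm_apply]
  rfl

omit [IsNoetherianRing A] [X.Over (Spec (CommRingCat.of A))] in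
theorem toH_bijective (M : X.Modules) : Function.Bijective (toH (M := M)) :=
  ((Cohom.HEquivTop (Coh.toAb M) 0).symm.bijective.comp (Cohom.H0Equiv (Coh.toAb M) ⊤).symm.bijective).comp
    ⟨fun f g h => OX.hom_ext_top f g h, fun m => ⟨OX.ofTop m, OX.ofTop_app_top m⟩⟩

/-- The cohomology of large negative twists vanishes in degrees `0` and `1`. -/
def Van (D : Twist X) (M : X.Modules) : Prop :=
  ∃ m₀ : ℕ, ∀ m : ℕ, m₀ ≤ m → ∀ i : ℕ, i ≤ 1 → Subsingleton (Coh.HH X ((D.T (-(m : ℤ))).obj M) i)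

/-- Large twists have no `H¹` and are quotients of free modules. -/
def Pos (D : Twist X) (M : X.Modules) : Prop :=
  ∃ ν₀ : ℕ, ∀ ν : ℕ, ν₀ ≤ ν → Subsingleton (Coh.HH X ((D.T (ν : ℤ)).obj M) 1) ∧
    ∃ (r : ℕ) (p : FlatMod.freeMod X r ⟶ (D.T (ν : ℤ)).obj M), Epi p

variable {D : Twist X} [IsProper (X ↘ Spec (CommRingCat.of A))]

include A in
/-- Sections of large twists of the bottom level lift to all levels. -/
theorem exists_lift (S : Sys D) (hvan : Van D (S.G 0)) (hpos : Pos D (S.G 0)) :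
    ∃ ν₂ : ℕ, ∀ ν : ℕ, ν₂ ≤ ν → ∀ x : Coh.HH X ((D.T (ν : ℤ)).obj (S.G 0)) 0,
      ∃ y : ∀ n, Coh.HH X ((D.T (ν : ℤ)).obj (S.G n)) 0, y 0 = x ∧
        ∀ n, hhMap A ((D.T (ν : ℤ)).map (S.t n)) 0 (y (n + 1)) = y n := by
  obtain ⟨m₀, hm₀⟩ := hvan
  obtain ⟨ν₁, hν₁⟩ := hpos
  let Q : ℕ → Type u := fun ν => Coh.HH X ((D.T (ν : ℤ)).obj (S.G (m₀ + ν))) 1
  have hQ : ∀ ν, Module.Finite A (Q ν) := fun ν => ProjCoh.moduleFinite_HH A _ (D.coh _ _ (S.coh _)) 1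
  let e : ∀ ν : ℕ, (D.T (-1) ⋙ D.T ((ν + 1 : ℕ) : ℤ)) ≅ D.T (ν : ℤ) :=
    fun ν => D.addIso (-1) ((ν + 1 : ℕ) : ℤ) (ν : ℤ) (by push_cast; ring)
  have hsurj : ∀ ν, ν₁ ≤ ν + 1 → Function.Surjective
      (hhMap A ((D.T ((ν + 1 : ℕ) : ℤ)).map (S.s (m₀ + ν))) 1) := fun ν hν z =>
    (Cohom.exact₂ (A := A) (D.shortExact_map ((ν + 1 : ℕ) : ℤ) (S.shortExact (m₀ + ν))) 1 z).1
      (@Subsingleton.elim _ (hν₁ (ν + 1) hν).1 _ _)
  let ψ : ∀ ν, Q ν →ₗ[A] Q (ν + 1) := fun ν =>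
    (hhMap A ((D.T ((ν + 1 : ℕ) : ℤ)).map (S.s (m₀ + ν))) 1).comp
      (hhMap A ((e ν).inv.app (S.G (m₀ + ν))) 1)
  have hψ : ∀ ν, ν₁ ≤ ν → Function.Surjective (ψ ν) := fun ν hν =>
    (hsurj ν (hν.trans (Nat.le_succ ν))).comp (Euler.hhEquiv (A := A) ((e ν).app (S.G (m₀ + ν))).symm 1).surjective
  let Φ : ∀ j, Q ν₁ →ₗ[A] Q (ν₁ + j) := fun j => Nat.rec LinearMap.id (fun j φ => (ψ (ν₁ + j)).comp φ) j
  have hΦ : ∀ j, Function.Surjective (Φ j) := by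
    intro j
    induction j with
    | zero => exact fun z => ⟨z, rfl⟩
    | succ j ih => exact (hψ (ν₁ + j) (Nat.le_add_right _ _)).comp ih
  have hmono : Monotone fun j => LinearMap.ker (Φ j) := monotone_nat_of_le_succ fun j z hz => by
    show ψ (ν₁ + j) (Φ j z) = 0
    rw [LinearMap.mem_ker.1 hz, map_zero]
  haveI := hQ ν₁
  obtain ⟨j₀, hj₀⟩ := monotone_stabilizes_iff_noetherian.2 (inferInstance : IsNoetherian A (Q ν₁))
    ⟨fun j => LinearMap.ker (Φ j), hmono⟩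
  have hinj : ∀ ν, ν₁ + j₀ ≤ ν → Function.Injective
      (hhMap A ((D.T ((ν + 1 : ℕ) : ℤ)).map (S.s (m₀ + ν))) 1) := by
    intro ν hν
    obtain ⟨j, rfl⟩ : ∃ j, ν = ν₁ + j := ⟨ν - ν₁, by omega⟩
    refine (injective_iff_map_eq_zero _).2 fun z hz => ?_
    obtain ⟨w, rfl⟩ := (Euler.hhEquiv (A := A) ((e (ν₁ + j)).app (S.G (m₀ + (ν₁ + j)))).symm 1).surjective z
    obtain ⟨v, rfl⟩ := hΦ j w
    have h1 : v ∈ LinearMap.ker (Φ (j + 1)) := hz
    have h2 : LinearMap.ker (Φ j₀) = LinearMap.ker (Φ (j + 1)) := hj₀ (j + 1) (by omega)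
    have h3 : LinearMap.ker (Φ j₀) = LinearMap.ker (Φ j) := hj₀ j (by omega)
    rw [← h2, h3, LinearMap.mem_ker] at h1
    rw [h1, map_zero]
  refine ⟨ν₁ + j₀ + 1, fun ν hν x => ?_⟩
  obtain ⟨ν', rfl⟩ : ∃ ν', ν = ν' + 1 := ⟨ν - 1, by omega⟩
  have hδ : Cohom.hhDelta A (D.shortExact_map ((ν' + 1 : ℕ) : ℤ) (S.shortExact (m₀ + ν'))) 0 x = 0 :=
    hinj ν' (by omega) (((Cohom.exact₁ (A := A)
      (D.shortExact_map ((ν' + 1 : ℕ) : ℤ) (S.shortExact (m₀ + ν'))) 0).apply_apply_eq_zero x).trans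
      (map_zero _).symm)
  obtain ⟨z, hz⟩ := (Cohom.exact₃ (A := A) (D.shortExact_map ((ν' + 1 : ℕ) : ℤ) (S.shortExact (m₀ + ν'))) 0 x).1 hδ
  have hstep : ∀ n, m₀ + ν' + 1 ≤ n →
      Function.Surjective (hhMap A ((D.T ((ν' + 1 : ℕ) : ℤ)).map (S.t n)) 0) := by
    intro n hn w
    obtain ⟨κ, hw, hκ⟩ := S.exists_kernel n
    refine (Cohom.exact₃ (A := A) (D.shortExact_map ((ν' + 1 : ℕ) : ℤ) hκ) 0 w).1 ?_
    have := hm₀ (n - ν') (by omega) 1 le_rfl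
    let i : (D.T ((ν' + 1 : ℕ) : ℤ)).obj ((D.T (-((n : ℤ) + 1))).obj (S.G 0)) ≅
        (D.T (-((n - ν' : ℕ) : ℤ))).obj (S.G 0) :=
      (D.addIso (-((n : ℤ) + 1)) ((ν' + 1 : ℕ) : ℤ) (-((n - ν' : ℕ) : ℤ))
        (by rw [Nat.cast_sub (by omega)]; push_cast; ring)).app (S.G 0)
    exact @Subsingleton.elim _ (Euler.hhEquiv (A := A) i 1).toEquiv.subsingleton _ _
  obtain ⟨y, hy, hyc⟩ := exists_family (m₀ + ν' + 1) (fun n => Coh.HH X ((D.T ((ν' + 1 : ℕ) : ℤ)).obj (S.G n)) 0)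
    (fun n => hhMap A ((D.T ((ν' + 1 : ℕ) : ℤ)).map (S.t n)) 0) hstep z
  refine ⟨y, ?_, hyc⟩
  have hu : ∀ n, hhMap A ((D.T ((ν' + 1 : ℕ) : ℤ)).map (uComp S.G S.t n)) 0 (y (n + 1)) = y 0 := by
    intro n
    induction n with
    | zero => exact hyc 0
    | succ n ih =>
      show hhMap A ((D.T _).map (S.t (n + 1) ≫ uComp S.G S.t n)) 0 _ = _
      rw [Functor.map_comp, ← hhMap_comp, hyc (n + 1), ih]
  refine (hu (m₀ + ν')).symm.trans ?_
  rw [hy]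
  exact hz

include A in
/-- A twisted free module maps compatibly onto every level. -/
theorem exists_cover (S : Sys D) (hvan : Van D (S.G 0)) (hpos : Pos D (S.G 0)) :
    ∃ ν₃ : ℕ, ∀ ν : ℕ, ν₃ ≤ ν → ∃ (r : ℕ) (q : ∀ n, (D.T (-(ν : ℤ))).obj (FlatMod.freeMod X r) ⟶ S.G n),
      (∀ n, q (n + 1) ≫ S.t n = q n) ∧ ∀ n, Epi (q n) := by
  obtain ⟨ν₂, hν₂⟩ := exists_lift (A := A) S hvan hpos
  obtain ⟨ν₁, hν₁⟩ := hpos
  refine ⟨max ν₁ ν₂, fun ν hν => ?_⟩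
  obtain ⟨r, p, hp⟩ := (hν₁ ν ((le_max_left _ _).trans hν)).2
  have hl : ∀ j : Fin r, ∃ y : ∀ n, Coh.structureModule X ⟶ (D.T (ν : ℤ)).obj (S.G n),
      y 0 = Sigma.ι (fun _ : Fin r => Coh.structureModule X) j ≫ p ∧
        ∀ n, y (n + 1) ≫ (D.T (ν : ℤ)).map (S.t n) = y n := by
    intro j
    obtain ⟨y, hy0, hy⟩ := hν₂ ν ((le_max_right _ _).trans hν)
      (toH (Sigma.ι (fun _ : Fin r => Coh.structureModule X) j ≫ p))
    choose g hg using fun n => (toH_bijective ((D.T (ν : ℤ)).obj (S.G n))).2 (y n)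
    refine ⟨g, (toH_bijective _).1 ((hg 0).trans hy0), fun n => (toH_bijective _).1 ?_⟩
    rw [← hhMap_toH (A := A), hg, hy, hg]
  choose y hy0 hy using hl
  let Y : ∀ n, FlatMod.freeMod X r ⟶ (D.T (ν : ℤ)).obj (S.G n) := fun n => Sigma.desc fun j => y j n
  let i : D.T (ν : ℤ) ⋙ D.T (-(ν : ℤ)) ≅ 𝟭 _ := D.addIso _ _ 0 (by ring) ≪≫ D.zeroIso
  have hq : ∀ n, ((D.T (-(ν : ℤ))).map (Y (n + 1)) ≫ i.hom.app (S.G (n + 1))) ≫ S.t n =
      (D.T (-(ν : ℤ))).map (Y n) ≫ i.hom.app (S.G n) := by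
    intro n
    have h1 : Y (n + 1) ≫ (D.T (ν : ℤ)).map (S.t n) = Y n :=
      Sigma.hom_ext _ _ fun j => by simp only [Y, colimit.ι_desc_assoc, Cofan.mk_ι_app, colimit.ι_desc, hy j n]
    rw [← h1, Functor.map_comp, Category.assoc, Category.assoc]
    exact congrArg (_ ≫ ·) (i.hom.naturality (S.t n)).symm
  refine ⟨r, fun n => (D.T (-(ν : ℤ))).map (Y n) ≫ i.hom.app (S.G n), hq, S.epi_of_epi_zero _ hq ?_⟩
  have h0 : Y 0 = p := Sigma.hom_ext _ _ fun j => by simp only [Y, colimit.ι_desc, Cofan.mk_ι_app, hy0]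
  rw [h0]
  have : Epi ((D.T (-(ν : ℤ))).map p) := inferInstance
  infer_instance

end GrothLib.LeffAmp7
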