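import Groth.Agent.Lib.LeffAmp7.Lift

/-!
# A system of thickenings is the completion of a coherent module
-/

set_option autoImplicit false
set_option linter.style.haveILetI false

universe u

open CategoryTheory CategoryTheory.Limits AlgebraicGeometry Opposite

noncomputable section

namespace GrothLib.LeffAmp7

open GrothLib.Cohom GrothLib.FormalFun

variable {X : Scheme.{u}} {D : Twist X}

theorem μk_natural {M N : X.Modules} (φ : M ⟶ N) : ∀ k : ℕ,
    (D.T (-(k : ℤ))).map φ ≫ μk D N k = μk D M k ≫ φ := by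
  intro k
  induction k with
  | zero => exact D.zeroIso.hom.naturality φ
  | succ k ih =>
    have hn := (D.addIso (-(k : ℤ)) (-1) (-((k + 1 : ℕ) : ℤ)) (by push_cast; ring)).inv.naturality φ
    rw [μk, μk, reassoc_of% hn]
    simp only [Category.assoc, Functor.comp_map]
    have h := congrArg (D.T (-1)).map ih
    simp only [Functor.map_comp] at h
    have hμ : D.μ.app M ≫ φ = (D.T (-1)).map φ ≫ D.μ.app N := (D.μ.naturality φ).symm
    rw [reassoc_of% h, hμ]

theorem μ_app_zero (S : Sys D) : D.μ.app (S.G 0) = 0 := by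
  have := S.epi_t 0
  have h0 : S.s 0 ≫ S.t 0 = 0 := S.s_u 0
  rw [← cancel_epi ((D.T (-1)).map (S.t 0)), comp_zero]
  refine (D.μ.naturality (S.t 0)).trans ?_
  show D.μ.app (S.G (0 + 1)) ≫ S.t 0 = 0
  rw [← S.s_fac 0, Category.assoc, h0, comp_zero]

theorem μk_comp_eq_zero (S : Sys D) {P : X.Modules} (q : ∀ n, P ⟶ S.G n) (hq : ∀ n, q (n + 1) ≫ S.t n = q n) :
    ∀ n, μk D P (n + 1) ≫ q n = 0 := by
  intro n
  induction n with
  | zero =>
    obtain ⟨e, he⟩ := μk_succ D P 0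
    have hμ : D.μ.app P ≫ q 0 = (D.T (-1)).map (q 0) ≫ D.μ.app (S.G 0) := (D.μ.naturality (q 0)).symm
    rw [he, Category.assoc, Category.assoc, hμ, μ_app_zero, comp_zero, comp_zero, comp_zero]
  | succ n ih =>
    obtain ⟨e, he⟩ := μk_succ D P (n + 1)
    have hμ : D.μ.app P ≫ q (n + 1) = (D.T (-1)).map (q (n + 1)) ≫ D.μ.app (S.G (n + 1)) :=
      (D.μ.naturality (q (n + 1))).symm
    rw [he, Category.assoc, Category.assoc, hμ, ← S.s_fac n, ← Functor.map_comp_assoc, ← Functor.map_comp_assoc,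
      Category.assoc, hq, ih, Functor.map_zero, zero_comp, comp_zero]

theorem mkShort {M N : X.Modules} (f : M ⟶ N) (hf : Mono f) :
    (ShortComplex.mk f (cokernel.π f) (cokernel.condition f)).ShortExact :=
  { exact := ShortComplex.exact_of_g_is_cokernel _ (cokernelIsCokernel _) }

variable {A : Type u} [CommRing A] [IsNoetherianRing A] [X.Over (Spec (CommRingCat.of A))]
  [IsProper (X ↘ Spec (CommRingCat.of A))]

omit [IsNoetherianRing A] [IsProper (X ↘ Spec (CommRingCat.of A))] in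
theorem hhMap_zero_injective {M N : X.Modules} (φ : M ⟶ N) [Mono φ] :
    Function.Injective (hhMap A φ 0) := by
  intro a b h
  obtain ⟨f, rfl⟩ := (toH_bijective M).2 a
  obtain ⟨g, rfl⟩ := (toH_bijective M).2 b
  rw [hhMap_toH, hhMap_toH] at h
  rw [(cancel_mono φ).1 ((toH_bijective N).1 h)]

include A in
/-- Compatible sections of the truncations of a twist come from sections. -/
theorem exists_section (P : X.Modules) [Mono (D.μ.app P)] (hvan : Van D P) (ν : ℕ)
    (x : ∀ n, Coh.HH X ((D.T (ν : ℤ)).obj (cokernel (μk D P (n + 1)))) 0)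
    (hx : ∀ n, hhMap A ((D.T (ν : ℤ)).map (trT D P n)) 0 (x (n + 1)) = x n) :
    ∃ h, ∀ n, hhMap A ((D.T (ν : ℤ)).map (cokernel.π (μk D P (n + 1)))) 0 h = x n := by
  obtain ⟨m₀, hm₀⟩ := hvan
  have hS : ∀ n, ((ShortComplex.mk (μk D P (n + 1)) _ (cokernel.condition _)).map (D.T (ν : ℤ))).ShortExact :=
    fun n => D.shortExact_map _ (mkShort _ (mono_μk D P (n + 1)))
  have hv : ∀ n, ν + m₀ ≤ n → ∀ i, i ≤ 1 →
      Subsingleton (Coh.HH X ((D.T (ν : ℤ)).obj ((D.T (-((n + 1 : ℕ) : ℤ))).obj P)) i) := by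
    intro n hn i hi
    have := hm₀ (n + 1 - ν) (by omega) i hi
    let j : (D.T (ν : ℤ)).obj ((D.T (-((n + 1 : ℕ) : ℤ))).obj P) ≅ (D.T (-((n + 1 - ν : ℕ) : ℤ))).obj P :=
      (D.addIso (-((n + 1 : ℕ) : ℤ)) (ν : ℤ) (-((n + 1 - ν : ℕ) : ℤ))
        (by rw [Nat.cast_sub (by omega)]; ring)).app P
    exact (Euler.hhEquiv (A := A) j i).toEquiv.subsingleton
  have hcomp : ∀ n h, hhMap A ((D.T (ν : ℤ)).map (trT D P n)) 0
      (hhMap A ((D.T (ν : ℤ)).map (cokernel.π (μk D P (n + 1 + 1)))) 0 h) =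
      hhMap A ((D.T (ν : ℤ)).map (cokernel.π (μk D P (n + 1)))) 0 h := fun n h => by
    rw [hhMap_comp, ← Functor.map_comp, cokernel.π_desc]
  obtain ⟨h, hh⟩ : ∃ h : Coh.HH X ((D.T (ν : ℤ)).obj P) 0,
      hhMap A ((D.T (ν : ℤ)).map (cokernel.π (μk D P (ν + m₀ + 1)))) 0 h = x (ν + m₀) :=
    (Cohom.exact₃ (A := A) (hS (ν + m₀)) 0 (x (ν + m₀))).1 (@Subsingleton.elim _ (hv (ν + m₀) le_rfl 1 le_rfl) _ _)
  have hup : ∀ j, hhMap A ((D.T (ν : ℤ)).map (cokernel.π (μk D P (ν + m₀ + j + 1)))) 0 h = x (ν + m₀ + j) := by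
    intro j
    induction j with
    | zero => exact hh
    | succ j ih =>
      obtain ⟨h', hh'⟩ : ∃ h' : Coh.HH X ((D.T (ν : ℤ)).obj P) 0,
          hhMap A ((D.T (ν : ℤ)).map (cokernel.π (μk D P (ν + m₀ + j + 1 + 1)))) 0 h' = x (ν + m₀ + j + 1) :=
        (Cohom.exact₃ (A := A) (hS (ν + m₀ + j + 1)) 0 (x (ν + m₀ + j + 1))).1
          (@Subsingleton.elim _ (hv (ν + m₀ + j + 1) (by omega) 1 le_rfl) _ _)
      have h0 : hhMap A ((D.T (ν : ℤ)).map (cokernel.π (μk D P (ν + m₀ + j + 1)))) 0 (h' - h) = 0 := by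
        rw [map_sub, ih, ← hcomp, sub_eq_zero]
        exact (congrArg _ hh').trans (hx _)
      obtain ⟨w, hw⟩ := (Cohom.exact₂ (A := A) (hS (ν + m₀ + j)) 0 (h' - h)).1 h0
      have hw0 : w = 0 := @Subsingleton.elim _ (hv (ν + m₀ + j) (by omega) 0 zero_le_one) _ _
      subst hw0
      have e : h' = h := sub_eq_zero.1 (hw.symm.trans (map_zero _))
      exact e ▸ hh'
  have hdown : ∀ j n, hhMap A ((D.T (ν : ℤ)).map (cokernel.π (μk D P (n + j + 1)))) 0 h = x (n + j) →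
      hhMap A ((D.T (ν : ℤ)).map (cokernel.π (μk D P (n + 1)))) 0 h = x n := by
    intro j
    induction j with
    | zero => exact fun n hn => hn
    | succ j ih =>
      intro n hn
      refine ih n ?_
      rw [← hcomp, ← hx (n + j)]
      exact congrArg _ hn
  refine ⟨h, fun n => hdown (ν + m₀) n ?_⟩
  rw [add_comm n (ν + m₀)]
  exact hup n

include A in
/-- Compatible maps from a twisted free module to the truncations come from a map. -/
theorem exists_hom (P : X.Modules) [Mono (D.μ.app P)] (hvan : Van D P) (ν r : ℕ)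
    (z : ∀ n, (D.T (-(ν : ℤ))).obj (FlatMod.freeMod X r) ⟶ cokernel (μk D P (n + 1)))
    (hz : ∀ n, z (n + 1) ≫ trT D P n = z n) :
    ∃ φ : (D.T (-(ν : ℤ))).obj (FlatMod.freeMod X r) ⟶ P, ∀ n, φ ≫ cokernel.π (μk D P (n + 1)) = z n := by
  let i : D.T (ν : ℤ) ⋙ D.T (-(ν : ℤ)) ≅ 𝟭 _ := D.addIso _ _ 0 (by ring) ≪≫ D.zeroIso
  let j : FlatMod.freeMod X r ⟶ (D.T (ν : ℤ)).obj ((D.T (-(ν : ℤ))).obj (FlatMod.freeMod X r)) :=
    (D.T (-(ν : ℤ))).preimage (i.inv.app ((D.T (-(ν : ℤ))).obj (FlatMod.freeMod X r)))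
  have hj : ∀ k : Fin r, ∃ g : Coh.structureModule X ⟶ (D.T (ν : ℤ)).obj P, ∀ n,
      g ≫ (D.T (ν : ℤ)).map (cokernel.π (μk D P (n + 1))) =
        Sigma.ι (fun _ : Fin r => Coh.structureModule X) k ≫ j ≫ (D.T (ν : ℤ)).map (z n) := by
    intro k
    obtain ⟨h, hh⟩ := exists_section (A := A) P hvan ν
      (fun n => toH (Sigma.ι (fun _ : Fin r => Coh.structureModule X) k ≫ j ≫ (D.T (ν : ℤ)).map (z n)))
      (fun n => by rw [hhMap_toH, Category.assoc, Category.assoc, ← Functor.map_comp, hz])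
    obtain ⟨g, rfl⟩ := (toH_bijective _).2 h
    exact ⟨g, fun n => (toH_bijective _).1 ((hhMap_toH (A := A) _ _).symm.trans (hh n))⟩
  choose g hg using hj
  refine ⟨(D.T (-(ν : ℤ))).map (Sigma.desc g) ≫ i.hom.app P, fun n => ?_⟩
  have h1 : Sigma.desc g ≫ (D.T (ν : ℤ)).map (cokernel.π (μk D P (n + 1))) = j ≫ (D.T (ν : ℤ)).map (z n) :=
    Sigma.hom_ext _ _ fun k => by simp only [colimit.ι_desc_assoc, Cofan.mk_ι_app, hg k n]
  have h2 : ∀ {M N : X.Modules} (a : M ⟶ N), i.hom.app M ≫ a = (D.T (-(ν : ℤ))).map ((D.T (ν : ℤ)).map a) ≫ i.hom.app N :=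
    fun a => (i.hom.naturality a).symm
  rw [Category.assoc, h2, ← Category.assoc, ← Functor.map_comp, h1, Functor.map_comp, Category.assoc, ← h2,
    ← Category.assoc, Functor.map_preimage, Iso.inv_hom_id_app]
  exact Category.id_comp _

include A in
/-- A system of thickenings with the vanishing is the completion of a coherent module. -/
theorem exists_algebraization [IsLocallyNoetherian X] (hposAll : ∀ M : X.Modules, Coh.IsCoh M → Pos D M)
    (hfree : ∀ (ν r : ℕ), Mono (D.μ.app ((D.T (-(ν : ℤ))).obj (FlatMod.freeMod X r))) ∧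
      Van D ((D.T (-(ν : ℤ))).obj (FlatMod.freeMod X r)) ∧
      Van D (cokernel (μk D ((D.T (-(ν : ℤ))).obj (FlatMod.freeMod X r)) (0 + 1))))
    (S : Sys D) (hvan : Van D (S.G 0)) :
    ∃ (F : X.Modules) (χ : ∀ n, F ⟶ S.G n) (w : ∀ n, μk D F (n + 1) ≫ χ n = 0), Coh.IsCoh F ∧
      (∀ n, χ (n + 1) ≫ S.t n = χ n) ∧
      ∀ n, Nonempty (IsColimit (CokernelCofork.ofπ (χ n) (w n))) := by
  obtain ⟨ν, hν⟩ := exists_cover (A := A) S hvan (hposAll _ (S.coh 0))
  obtain ⟨r, q, hqc, hqe⟩ := hν ν le_rfl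
  obtain ⟨hmono, hvanP, hvanP₀⟩ := hfree ν r
  let P := (D.T (-(ν : ℤ))).obj (FlatMod.freeMod X r)
  have hP : Coh.IsCoh P := D.coh _ _ (DegDet.isCoh_freeMod X r)
  haveI : Mono (D.μ.app P) := hmono
  let q' : ∀ n, (truncSys D P hP).G n ⟶ S.G n := fun n =>
    cokernel.desc _ (q n) (μk_comp_eq_zero S q hqc n)
  have hq' : ∀ n, (truncSys D P hP).t n ≫ q' n = q' (n + 1) ≫ S.t n := fun n => by
    refine (cancel_epi (cokernel.π (μk D P (n + 1 + 1)))).1 ?_
    show _ ≫ trT D P n ≫ _ = _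
    rw [cokernel.π_desc_assoc]
    show _ ≫ cokernel.desc _ _ _ = _ ≫ cokernel.desc _ _ _ ≫ _
    rw [cokernel.π_desc, cokernel.π_desc_assoc, hqc]
  have hq'e : ∀ n, Epi (q' n) := fun n => by
    have := hqe n
    exact epi_of_epi_fac (cokernel.π_desc _ (q n) (μk_comp_eq_zero S q hqc n))
  let R := kerSys q' hq'
  have hR : Van D (R.G 0) := by
    obtain ⟨a, ha⟩ := hvan
    obtain ⟨b, hb⟩ := hvanP₀
    refine ⟨max a b, fun m hm i hi => ?_⟩
    have hS : ((ShortComplex.mk (kernel.ι (q' 0)) (q' 0) (kernel.condition _)).map (D.T (-(m : ℤ)))).ShortExact := by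
      have := hq'e 0
      exact D.shortExact_map _ { exact := ShortComplex.exact_of_f_is_kernel _ (kernelIsKernel _) }
    refine subsingleton_of_forall_eq 0 fun x => ?_
    have hx : hhMap A ((D.T (-(m : ℤ))).map (kernel.ι (q' 0))) i x = 0 :=
      @Subsingleton.elim _ (hb m ((le_max_right _ _).trans hm) i hi) _ _
    interval_cases i
    · have h1 : Mono ((D.T (-(m : ℤ))).map (kernel.ι (q' 0))) := hS.mono_f
      exact @hhMap_zero_injective _ A _ _ _ _ _ h1 _ _ (hx.trans (map_zero _).symm)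
    · obtain ⟨y, rfl⟩ := (Cohom.exact₁ (A := A) hS 0 x).1 hx
      have hy0 : y = 0 := @Subsingleton.elim _ (ha m ((le_max_left _ _).trans hm) 0 zero_le_one) _ _
      subst hy0
      exact map_zero _
  obtain ⟨μ, hμ⟩ := exists_cover (A := A) R hR (hposAll _ (R.coh 0))
  obtain ⟨s, q₁, hq₁, hq₁e⟩ := hμ μ le_rfl
  obtain ⟨φ, hφ⟩ := exists_hom (A := A) P hvanP μ s (fun n => q₁ n ≫ kernel.ι (q' n)) (fun n => by
    rw [Category.assoc, ← hq₁ n, Category.assoc]
    exact congrArg (q₁ (n + 1) ≫ ·) (kernel.lift_ι _ _ _).symm)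
  have hφq : ∀ n, φ ≫ q n = 0 := fun n => by
    rw [← cokernel.π_desc _ (q n) (μk_comp_eq_zero S q hqc n), ← Category.assoc, hφ, Category.assoc]
    exact (congrArg (_ ≫ ·) (kernel.condition (q' n))).trans comp_zero
  let χ : ∀ n, cokernel φ ⟶ S.G n := fun n => cokernel.desc φ (q n) (hφq n)
  have hw : ∀ n, μk D (cokernel φ) (n + 1) ≫ χ n = 0 := fun n => by
    rw [← cancel_epi ((D.T (-((n + 1 : ℕ) : ℤ))).map (cokernel.π φ)), comp_zero, ← Category.assoc, μk_natural,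
      Category.assoc, cokernel.π_desc, μk_comp_eq_zero S q hqc n]
  refine ⟨cokernel φ, χ, hw, QCoh.isCoh_cokernel _ (D.coh _ _ (DegDet.isCoh_freeMod X s)) hP,
    fun n => (cancel_epi (cokernel.π φ)).1 (by rw [cokernel.π_desc_assoc, cokernel.π_desc, hqc]), fun n => ?_⟩
  have hχ : Epi (χ n) := by
    have := hqe n
    exact epi_of_epi_fac (cokernel.π_desc φ (q n) (hφq n))
  have hdesc : ∀ {C : X.Modules} (c : cokernel φ ⟶ C), μk D (cokernel φ) (n + 1) ≫ c = 0 →
      ∃ d : S.G n ⟶ C, χ n ≫ d = c := by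
    intro C c hc
    have h1 : μk D P (n + 1) ≫ cokernel.π φ ≫ c = 0 := by
      rw [← Category.assoc, ← μk_natural, Category.assoc, hc, comp_zero]
    have h2 : kernel.ι (q' n) ≫ cokernel.desc _ _ h1 = 0 := by
      have := hq₁e n
      refine (cancel_epi (q₁ n)).1 ?_
      refine ((Category.assoc _ _ _).symm.trans ((congrArg (· ≫ _) (hφ n).symm).trans ?_)).trans comp_zero.symm
      rw [Category.assoc]
      refine (congrArg (φ ≫ ·) (cokernel.π_desc _ _ _)).trans ?_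
      rw [cokernel.condition_assoc, zero_comp]
    have := hq'e n
    refine ⟨Abelian.epiDesc (q' n) _ h2, (cancel_epi (cokernel.π φ)).1 ?_⟩
    rw [cokernel.π_desc_assoc, ← cokernel.π_desc _ (q n) (μk_comp_eq_zero S q hqc n), Category.assoc]
    refine (congrArg (_ ≫ ·) (Abelian.comp_epiDesc (q' n) _ h2)).trans (cokernel.π_desc _ _ _)
  exact ⟨CokernelCofork.IsColimit.ofπ _ _ (fun c hc => (hdesc c hc).choose) (fun c hc => (hdesc c hc).choose_spec)
    fun c hc m hm => (cancel_epi (χ n)).1 (hm.trans (hdesc c hc).choose_spec.symm)⟩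

end GrothLib.LeffAmp7
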