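import Groth.Agent.Lib.QCoh.SupportExact
import Groth.Agent.Lib.FormalExist7.OpenPush
import Mathlib.CategoryTheory.Abelian.Exact
import Mathlib.CategoryTheory.Abelian.Refinements
import Mathlib.Algebra.Homology.ShortComplex.ShortExact

/-!
# Systems of thickenings of a module along an invertible ideal

An abstract twist `T` by the powers of an invertible ideal with `μ : T (-1) ⟶ 𝟭`, and systems `G` with
exact sequences `0 → T(-1) Gₙ → Gₙ₊₁ → G₀ → 0`.
-/

set_option autoImplicit false
set_option linter.style.haveILetI false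

universe u

open CategoryTheory CategoryTheory.Limits AlgebraicGeometry

noncomputable section

namespace GrothLib.LeffAmp7

/-- Twisting functors with a map `T (-1) ⟶ 𝟭`. -/
structure Twist (X : Scheme.{u}) where
  /-- the twist by a power -/
  T : ℤ → X.Modules ⥤ X.Modules
  isEquiv : ∀ a, (T a).IsEquivalence
  /-- the zeroth twist is trivial -/
  zeroIso : T 0 ≅ 𝟭 _
  /-- twists add -/
  addIso : ∀ a b c : ℤ, a + b = c → (T a ⋙ T b ≅ T c)
  coh : ∀ a M, Coh.IsCoh M → Coh.IsCoh ((T a).obj M)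
  /-- multiplication -/
  μ : T (-1) ⟶ 𝟭 _

attribute [instance] Twist.isEquiv

variable {X : Scheme.{u}} (D : Twist X)

instance (a : ℤ) : (D.T a).Additive := Functor.additive_of_preserves_binary_products _

theorem Twist.shortExact_map (a : ℤ) {S : ShortComplex X.Modules} (h : S.ShortExact) :
    (S.map (D.T a)).ShortExact := h.map_of_exact (D.T a)

/-- Transitions composed down to level zero. -/
def uComp (G : ℕ → X.Modules) (t : ∀ n, G (n + 1) ⟶ G n) : ∀ n, G (n + 1) ⟶ G 0
  | 0 => t 0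
  | n + 1 => t (n + 1) ≫ uComp G t n

/-- A system of thickenings. -/
structure Sys where
  /-- the levels -/
  G : ℕ → X.Modules
  coh : ∀ n, Coh.IsCoh (G n)
  /-- the transition maps -/
  t : ∀ n, G (n + 1) ⟶ G n
  /-- the multiplication maps -/
  s : ∀ n, (D.T (-1)).obj (G n) ⟶ G (n + 1)
  s_fac : ∀ n, (D.T (-1)).map (t n) ≫ s n = D.μ.app (G (n + 1))
  s_t : ∀ n, s (n + 1) ≫ t (n + 1) = (D.T (-1)).map (t n) ≫ s n
  s_u : ∀ n, s n ≫ uComp G t n = 0
  shortExact : ∀ n, (ShortComplex.mk (s n) (uComp G t n) (s_u n)).ShortExact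

variable {D} (S : Sys D)

theorem Sys.epi_t : ∀ n, Epi (S.t n) := by
  intro n
  induction n with
  | zero => exact (S.shortExact 0).epi_g
  | succ n ih =>
    rw [epi_iff_surjective_up_to_refinements]
    intro A y
    have h1 := (S.shortExact (n + 1)).epi_g
    obtain ⟨A', p, hp, x, hx⟩ := surjective_up_to_refinements_of_epi (uComp S.G S.t (n + 1)) (y ≫ uComp S.G S.t n)
    have hz : (p ≫ y - x ≫ S.t (n + 1)) ≫ uComp S.G S.t n = 0 := by
      rw [Preadditive.sub_comp, Category.assoc, Category.assoc, hx]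
      exact sub_eq_zero.2 rfl
    have h2 := (S.shortExact n).mono_f
    have hz' : (S.shortExact n).exact.lift _ hz ≫ S.s n = p ≫ y - x ≫ S.t (n + 1) :=
      (S.shortExact n).exact.lift_f _ hz
    obtain ⟨A'', q, hq, w, hw⟩ := surjective_up_to_refinements_of_epi ((D.T (-1)).map (S.t n))
      ((S.shortExact n).exact.lift _ hz)
    refine ⟨A'', q ≫ p, epi_comp _ _, w ≫ S.s (n + 1) + q ≫ x, ?_⟩
    rw [Preadditive.add_comp]
    simp only [Category.assoc]
    rw [S.s_t, ← reassoc_of% hw, hz', Preadditive.comp_sub, sub_add_cancel]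

/-- The kernel of a transition is a twist of the lowest level. -/
theorem Sys.exists_kernel : ∀ n : ℕ, ∃ (κ : (D.T (-((n : ℤ) + 1))).obj (S.G 0) ⟶ S.G (n + 1))
    (w : κ ≫ S.t n = 0), (ShortComplex.mk κ (S.t n) w).ShortExact := by
  intro n
  induction n with
  | zero => exact ⟨S.s 0, S.s_u 0, S.shortExact 0⟩
  | succ n ih =>
    obtain ⟨κ, w, hκ⟩ := ih
    let e := (D.addIso (-((n : ℤ) + 1)) (-1) (-(((n + 1 : ℕ) : ℤ) + 1)) (by push_cast; ring)).app (S.G 0)
    have w' : (e.inv ≫ (D.T (-1)).map κ ≫ S.s (n + 1)) ≫ S.t (n + 1) = 0 := by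
      rw [Category.assoc, Category.assoc, S.s_t, ← Functor.map_comp_assoc, w, Functor.map_zero, zero_comp,
        comp_zero]
    refine ⟨_, w', ?_⟩
    have hm := (S.shortExact (n + 1)).mono_f
    have hm' := (D.shortExact_map (-1) hκ).mono_f
    have hm'' := (S.shortExact n).mono_f
    have hmono : Mono (e.inv ≫ (D.T (-1)).map κ ≫ S.s (n + 1)) := by
      have : Mono ((D.T (-1)).map κ) := hm'
      have : Mono (S.s (n + 1)) := hm
      infer_instance
    refine ShortComplex.ShortExact.mk' ?_ hmono (S.epi_t (n + 1))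
    refine ShortComplex.exact_of_f_is_kernel _ (KernelFork.IsLimit.ofι' _ _ fun {A} x hx => ?_)
    have hx0 : x ≫ uComp S.G S.t (n + 1) = 0 := by
      show x ≫ S.t (n + 1) ≫ uComp S.G S.t n = 0
      rw [← Category.assoc, hx, zero_comp]
    have hz' : (S.shortExact (n + 1)).exact.lift x hx0 ≫ S.s (n + 1) = x :=
      (S.shortExact (n + 1)).exact.lift_f x hx0
    have hz0 : (S.shortExact (n + 1)).exact.lift x hx0 ≫ (D.T (-1)).map (S.t n) = 0 := by
      have : Mono (S.s n) := hm''
      rw [← cancel_mono (S.s n), zero_comp, Category.assoc, ← S.s_t, ← Category.assoc, hz']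
      exact hx
    have : Mono ((ShortComplex.mk κ (S.t n) w).map (D.T (-1))).f := hm'
    refine ⟨(D.shortExact_map (-1) hκ).exact.lift _ hz0 ≫ e.hom, ?_⟩
    refine (Category.assoc _ _ _).trans ((congrArg (_ ≫ ·) (e.hom_inv_id_assoc _)).trans ?_)
    refine (Category.assoc _ _ _).symm.trans ?_
    refine (congrArg (· ≫ S.s (n + 1)) ((D.shortExact_map (-1) hκ).exact.lift_f _ hz0)).trans hz'

/-- Compatible maps from a module that are epi at the bottom are epi at every level. -/
theorem Sys.epi_of_epi_zero {P : X.Modules} (q : ∀ n, P ⟶ S.G n) (hq : ∀ n, q (n + 1) ≫ S.t n = q n)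
    (h0 : Epi (q 0)) : ∀ n, Epi (q n) := by
  have hu : ∀ n, q (n + 1) ≫ uComp S.G S.t n = q 0 := by
    intro n
    induction n with
    | zero => exact hq 0
    | succ n ih => rw [show uComp S.G S.t (n + 1) = S.t (n + 1) ≫ uComp S.G S.t n from rfl, ← Category.assoc, hq, ih]
  intro n
  induction n with
  | zero => exact h0
  | succ n ih =>
    refine Preadditive.epi_of_cancel_zero _ fun {C} c hc => ?_
    have h1 : S.s n ≫ c = 0 := by
      have : Epi ((D.T (-1)).map (q n)) := inferInstance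
      rw [← cancel_epi ((D.T (-1)).map (q n)), comp_zero, ← hq n, Functor.map_comp, Category.assoc,
        ← Category.assoc ((D.T (-1)).map (S.t n)), S.s_fac, ← Category.assoc, D.μ.naturality, Category.assoc]
      show D.μ.app P ≫ q (n + 1) ≫ c = 0
      rw [hc, comp_zero]
    obtain ⟨d, hd⟩ : ∃ d, uComp S.G S.t n ≫ d = c := by
      have := (S.shortExact n).epi_g
      exact ⟨(S.shortExact n).exact.desc c h1, (S.shortExact n).exact.g_desc c h1⟩
    have hd0 : d = 0 := by
      rw [← cancel_epi (q 0), comp_zero, ← hu n, Category.assoc, hd, hc]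
    rw [← hd, hd0, comp_zero]

section Kernel

variable {S} {S' : Sys D} (q : ∀ n, S'.G n ⟶ S.G n) (hq : ∀ n, S'.t n ≫ q n = q (n + 1) ≫ S.t n)

include hq in
theorem uComp_natural : ∀ n, uComp S'.G S'.t n ≫ q 0 = q (n + 1) ≫ uComp S.G S.t n := by
  intro n
  induction n with
  | zero => exact hq 0
  | succ n ih =>
    show (S'.t (n + 1) ≫ uComp S'.G S'.t n) ≫ q 0 = q (n + 2) ≫ S.t (n + 1) ≫ uComp S.G S.t n
    rw [Category.assoc, ih, ← Category.assoc, hq, Category.assoc]

variable [hep : ∀ n, Epi (q n)]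

include hq in
theorem s_natural (n : ℕ) : (D.T (-1)).map (q n) ≫ S.s n = S'.s n ≫ q (n + 1) := by
  have := S'.epi_t n
  rw [← cancel_epi ((D.T (-1)).map (S'.t n)), ← Category.assoc, ← Functor.map_comp, hq, Functor.map_comp,
    Category.assoc, S.s_fac, reassoc_of% (S'.s_fac n)]
  exact D.μ.naturality _

/-- Transitions on kernels. -/
abbrev kerT (n : ℕ) : kernel (q (n + 1)) ⟶ kernel (q n) := kernel.map _ _ (S'.t n) (S.t n) (hq n).symm

include hq in
theorem kerS_cond (n : ℕ) : ((D.T (-1)).map (kernel.ι (q n)) ≫ S'.s n) ≫ q (n + 1) = 0 := by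
  rw [Category.assoc, ← s_natural q hq n, ← Functor.map_comp_assoc, kernel.condition, Functor.map_zero, zero_comp]

/-- Multiplication on kernels. -/
abbrev kerS (n : ℕ) : (D.T (-1)).obj (kernel (q n)) ⟶ kernel (q (n + 1)) := kernel.lift _ _ (kerS_cond q hq n)

theorem uComp_ker : ∀ m, uComp (fun n => kernel (q n)) (kerT q hq) m ≫ kernel.ι (q 0) =
    kernel.ι (q (m + 1)) ≫ uComp S'.G S'.t m := by
  intro m
  induction m with
  | zero => exact kernel.lift_ι _ _ _
  | succ m ih => simp only [uComp, Category.assoc, ih, kernel.lift_ι_assoc]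

theorem kerS_u (n : ℕ) : kerS q hq n ≫ uComp (fun n => kernel (q n)) (kerT q hq) n = 0 := by
  rw [← cancel_mono (kernel.ι (q 0)), Category.assoc, uComp_ker, kernel.lift_ι_assoc, Category.assoc, S'.s_u,
    comp_zero, zero_comp]

theorem ker_shortExact (n : ℕ) : (ShortComplex.mk (kerS q hq n) _ (kerS_u q hq n)).ShortExact := by
  have hm : Mono (kerS q hq n) := by
    have := (S'.shortExact n).mono_f
    have : Mono (S'.s n) := this
    exact mono_of_mono_fac (kernel.lift_ι _ _ _)
  have he : Epi (uComp (fun n => kernel (q n)) (kerT q hq) n) := by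
    rw [epi_iff_surjective_up_to_refinements]
    intro A y
    have := (S'.shortExact n).epi_g
    obtain ⟨A', p, hp, x, hx⟩ := surjective_up_to_refinements_of_epi (uComp S'.G S'.t n) (y ≫ kernel.ι (q 0))
    have h1 : (x ≫ q (n + 1)) ≫ uComp S.G S.t n = 0 := by
      rw [Category.assoc, ← uComp_natural q hq n, ← Category.assoc, ← hx, Category.assoc, Category.assoc,
        kernel.condition, comp_zero, comp_zero]
    have := (S.shortExact n).mono_f
    have h2 : (S.shortExact n).exact.lift _ h1 ≫ S.s n = x ≫ q (n + 1) := (S.shortExact n).exact.lift_f _ h1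
    obtain ⟨A'', p', hp', w, hw⟩ := surjective_up_to_refinements_of_epi ((D.T (-1)).map (q n))
      ((S.shortExact n).exact.lift _ h1)
    have h3 : (p' ≫ x - w ≫ S'.s n) ≫ q (n + 1) = 0 := by
      simp only [Preadditive.sub_comp, Category.assoc]
      rw [← s_natural q hq n, ← reassoc_of% hw, h2, sub_self]
    refine ⟨A'', p' ≫ p, epi_comp _ _, kernel.lift _ _ h3, ?_⟩
    rw [← cancel_mono (kernel.ι (q 0))]
    simp only [Category.assoc]
    rw [uComp_ker, kernel.lift_ι_assoc, hx, Preadditive.sub_comp, Category.assoc, Category.assoc, S'.s_u,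
      comp_zero, sub_zero]
  refine ShortComplex.ShortExact.mk' ?_ hm he
  refine ShortComplex.exact_of_f_is_kernel _ (KernelFork.IsLimit.ofι' _ _ fun {A} x hx => ?_)
  have h1 : (x ≫ kernel.ι (q (n + 1))) ≫ uComp S'.G S'.t n = 0 :=
    (Category.assoc _ _ _).trans ((congrArg (x ≫ ·) (uComp_ker q hq n).symm).trans
      ((Category.assoc _ _ _).symm.trans ((congrArg (· ≫ _) hx).trans zero_comp)))
  have := (S'.shortExact n).mono_f
  have := (S.shortExact n).mono_f
  have : Mono (S.s n) := ‹_›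
  have h2 : (S'.shortExact n).exact.lift _ h1 ≫ S'.s n = x ≫ kernel.ι (q (n + 1)) :=
    (S'.shortExact n).exact.lift_f _ h1
  have hS : ((ShortComplex.mk (kernel.ι (q n)) (q n) (kernel.condition _))).ShortExact :=
    { exact := ShortComplex.exact_of_f_is_kernel _ (kernelIsKernel _) }
  have h3 : (S'.shortExact n).exact.lift _ h1 ≫ (D.T (-1)).map (q n) = 0 := by
    rw [← cancel_mono (S.s n), zero_comp]
    refine (Category.assoc _ _ _).trans ((congrArg (_ ≫ ·) (s_natural q hq n)).trans ?_)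
    refine (Category.assoc _ _ _).symm.trans ((congrArg (· ≫ _) h2).trans ?_)
    rw [Category.assoc, kernel.condition, comp_zero]
  have : Mono ((ShortComplex.mk (kernel.ι (q n)) (q n) (kernel.condition _)).map (D.T (-1))).f :=
    (D.shortExact_map (-1) hS).mono_f
  refine ⟨(D.shortExact_map (-1) hS).exact.lift _ h3, ?_⟩
  refine (cancel_mono (kernel.ι (q (n + 1)))).1 ?_
  refine (Category.assoc _ _ _).trans ((congrArg (_ ≫ ·) (kernel.lift_ι _ _ _)).trans ?_)
  refine (Category.assoc _ _ _).symm.trans ?_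
  exact (congrArg (· ≫ S'.s n) ((D.shortExact_map (-1) hS).exact.lift_f _ h3)).trans h2

/-- The kernel system of an epimorphism of systems. -/
def kerSys [IsLocallyNoetherian X] : Sys D where
  G n := kernel (q n)
  coh n := QCoh.isCoh_kernel _ (S'.coh n) (S.coh n)
  t := kerT q hq
  s := kerS q hq
  s_fac n := by
    rw [← cancel_mono (kernel.ι (q (n + 1))), Category.assoc, kernel.lift_ι, ← Functor.map_comp_assoc,
      kernel.lift_ι, Functor.map_comp, Category.assoc, S'.s_fac]
    exact D.μ.naturality _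
  s_t n := by
    rw [← cancel_mono (kernel.ι (q (n + 1))), Category.assoc, kernel.lift_ι, kernel.lift_ι_assoc, Category.assoc,
      S'.s_t, Category.assoc, kernel.lift_ι, ← Functor.map_comp_assoc, ← Functor.map_comp_assoc, kernel.lift_ι]
  s_u := kerS_u q hq
  shortExact := ker_shortExact q hq

end Kernel

section Trunc

variable (D)

/-- Multiplication by the `k`-th power. -/
def μk (P : X.Modules) : ∀ k : ℕ, (D.T (-(k : ℤ))).obj P ⟶ P
  | 0 => D.zeroIso.hom.app P
  | k + 1 => (D.addIso (-(k : ℤ)) (-1) (-((k + 1 : ℕ) : ℤ)) (by push_cast; ring)).inv.app P ≫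
      (D.T (-1)).map (μk P k) ≫ D.μ.app P

variable (P : X.Modules)

theorem μk_succ (k : ℕ) : ∃ (e : (D.T (-((k + 1 : ℕ) : ℤ))).obj P ≅ (D.T (-1)).obj ((D.T (-(k : ℤ))).obj P)),
    μk D P (k + 1) = e.hom ≫ (D.T (-1)).map (μk D P k) ≫ D.μ.app P :=
  ⟨((D.addIso (-(k : ℤ)) (-1) (-((k + 1 : ℕ) : ℤ)) (by push_cast; ring)).app P).symm, by
    rw [μk]; rfl⟩

theorem mono_μk [Mono (D.μ.app P)] : ∀ k, Mono (μk D P k) := by
  intro k
  induction k with
  | zero => exact inferInstanceAs (Mono (D.zeroIso.hom.app P))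
  | succ k ih =>
    obtain ⟨e, he⟩ := μk_succ D P k
    rw [he]
    infer_instance

theorem μk_succ_π (k : ℕ) : μk D P (k + 1) ≫ cokernel.π (μk D P k) = 0 := by
  obtain ⟨e, he⟩ := μk_succ D P k
  have h : (D.T (-1)).map (μk D P k) ≫ D.μ.app P = D.μ.app ((D.T (-(k : ℤ))).obj P) ≫ μk D P k := D.μ.naturality _
  rw [he, h, Category.assoc, Category.assoc, cokernel.condition, comp_zero, comp_zero]

/-- Transitions of the truncations. -/
abbrev trT (n : ℕ) : cokernel (μk D P (n + 1 + 1)) ⟶ cokernel (μk D P (n + 1)) :=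
  cokernel.desc _ (cokernel.π (μk D P (n + 1))) (μk_succ_π D P (n + 1))

theorem trS_cond (n : ℕ) :
    (D.T (-1)).map (μk D P (n + 1)) ≫ D.μ.app P ≫ cokernel.π (μk D P (n + 1 + 1)) = 0 := by
  obtain ⟨e, he⟩ := μk_succ D P (n + 1)
  have h := cokernel.condition (μk D P (n + 1 + 1))
  rw [← cancel_epi e.hom, comp_zero, ← h]
  conv_rhs => rw [show μk D P (n + 1 + 1) ≫ cokernel.π (μk D P (n + 1 + 1)) =
    (e.hom ≫ (D.T (-1)).map (μk D P (n + 1)) ≫ D.μ.app P) ≫ cokernel.π (μk D P (n + 1 + 1)) from by rw [← he]]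
  simp only [Category.assoc]

/-- Multiplication on the truncations. -/
def trS (n : ℕ) : (D.T (-1)).obj (cokernel (μk D P (n + 1))) ⟶ cokernel (μk D P (n + 1 + 1)) :=
  inv (cokernelComparison (μk D P (n + 1)) (D.T (-1))) ≫ cokernel.desc _ _ (trS_cond D P n)

theorem π_trS (n : ℕ) : (D.T (-1)).map (cokernel.π (μk D P (n + 1))) ≫ trS D P n =
    D.μ.app P ≫ cokernel.π (μk D P (n + 1 + 1)) := by
  rw [trS, ← π_comp_cokernelComparison, Category.assoc, IsIso.hom_inv_id_assoc, cokernel.π_desc]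

theorem π_trU : ∀ m, cokernel.π (μk D P (m + 1 + 1)) ≫ uComp (fun n => cokernel (μk D P (n + 1))) (trT D P) m =
    cokernel.π (μk D P (0 + 1)) := by
  intro m
  induction m with
  | zero => exact cokernel.π_desc _ _ _
  | succ m ih => simp only [uComp, cokernel.π_desc_assoc, ih]

theorem trS_u (n : ℕ) : trS D P n ≫ uComp (fun n => cokernel (μk D P (n + 1))) (trT D P) n = 0 := by
  rw [← cancel_epi ((D.T (-1)).map (cokernel.π (μk D P (n + 1)))), comp_zero, ← Category.assoc, π_trS,
    Category.assoc]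
  refine (congrArg (D.μ.app P ≫ ·) (π_trU D P n)).trans ?_
  obtain ⟨e, he⟩ := μk_succ D P 0
  have : Epi (e.hom ≫ (D.T (-1)).map (μk D P 0)) := by
    have : IsIso (μk D P 0) := inferInstanceAs (IsIso (D.zeroIso.hom.app P))
    infer_instance
  refine (cancel_epi (e.hom ≫ (D.T (-1)).map (μk D P 0))).1 ?_
  refine Eq.trans ?_ (comp_zero.symm)
  refine Eq.trans ?_ (cokernel.condition (μk D P (0 + 1)))
  rw [Category.assoc]
  refine Eq.trans ?_ (congrArg (fun h => h ≫ cokernel.π (μk D P (0 + 1))) he.symm)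
  simp only [Category.assoc]

theorem tr_shortExact [Mono (D.μ.app P)] (n : ℕ) :
    (ShortComplex.mk (trS D P n) _ (trS_u D P n)).ShortExact := by
  have he : Epi (uComp (fun n => cokernel (μk D P (n + 1))) (trT D P) n) := epi_of_epi_fac (π_trU D P n)
  obtain ⟨e, hμe⟩ := μk_succ D P (n + 1)
  have := mono_μk D P (n + 1 + 1)
  have hex : ∀ k, Mono (μk D P k) → (ShortComplex.mk (μk D P k) _ (cokernel.condition _)).ShortExact := fun k hk =>
    { exact := ShortComplex.exact_of_g_is_cokernel _ (cokernelIsCokernel _) }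
  have hm : Mono (trS D P n) := by
    refine Preadditive.mono_of_cancel_zero _ fun {A} z hz => ?_
    obtain ⟨A', p, hp, w, hw⟩ := surjective_up_to_refinements_of_epi
      ((D.T (-1)).map (cokernel.π (μk D P (n + 1)))) z
    have h1 : (w ≫ D.μ.app P) ≫ cokernel.π (μk D P (n + 1 + 1)) = 0 := by
      rw [Category.assoc, ← π_trS, ← reassoc_of% hw, hz, comp_zero]
    have := (hex _ (mono_μk D P (n + 1 + 1))).mono_f
    obtain ⟨l, h2⟩ : ∃ l, l ≫ μk D P (n + 1 + 1) = w ≫ D.μ.app P :=
      ⟨_, (hex _ (mono_μk D P (n + 1 + 1))).exact.lift_f _ h1⟩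
    have h3 : (l ≫ e.hom) ≫ (D.T (-1)).map (μk D P (n + 1)) = w := by
      rw [← cancel_mono (D.μ.app P), ← h2, hμe]
      simp only [Category.assoc]
    rw [← cancel_epi p, comp_zero, hw, ← h3, Category.assoc, ← Functor.map_comp, cokernel.condition,
      Functor.map_zero, comp_zero]
  refine ShortComplex.ShortExact.mk' ?_ hm he
  rw [ShortComplex.exact_iff_exact_up_to_refinements]
  intro A x hx
  obtain ⟨A', p, hp, y, hy⟩ := surjective_up_to_refinements_of_epi (cokernel.π (μk D P (n + 1 + 1))) x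
  have h1 : y ≫ cokernel.π (μk D P (0 + 1)) = 0 := by
    rw [← π_trU D P n, ← reassoc_of% hy]
    exact (congrArg (p ≫ ·) hx).trans comp_zero
  have := (hex _ (mono_μk D P (0 + 1))).mono_f
  obtain ⟨l, h2⟩ : ∃ l, l ≫ μk D P (0 + 1) = y := ⟨_, (hex _ (mono_μk D P (0 + 1))).exact.lift_f _ h1⟩
  obtain ⟨e₀, he₀⟩ := μk_succ D P 0
  refine ⟨A', p, hp, (l ≫ e₀.hom ≫ (D.T (-1)).map (μk D P 0)) ≫
    (D.T (-1)).map (cokernel.π (μk D P (n + 1))), ?_⟩
  refine hy.trans (Eq.symm ?_)
  refine (Category.assoc _ _ _).trans ((congrArg (_ ≫ ·) (π_trS D P n)).trans ?_)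
  refine (Category.assoc _ _ _).symm.trans (congrArg (· ≫ cokernel.π (μk D P (n + 1 + 1))) ?_)
  refine Eq.trans ?_ h2
  rw [he₀]
  simp only [Category.assoc]

/-- `P` modulo the powers. -/
def truncSys [IsLocallyNoetherian X] [Mono (D.μ.app P)] (hP : Coh.IsCoh P) : Sys D where
  G n := cokernel (μk D P (n + 1))
  coh n := QCoh.isCoh_cokernel _ (D.coh _ _ hP) hP
  t := trT D P
  s := trS D P
  s_fac n := by
    rw [← cancel_epi ((D.T (-1)).map (cokernel.π (μk D P (n + 1 + 1)))), ← Functor.map_comp_assoc, cokernel.π_desc,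
      π_trS]
    exact (D.μ.naturality _).symm
  s_t n := by
    rw [← cancel_epi ((D.T (-1)).map (cokernel.π (μk D P (n + 1 + 1)))), reassoc_of% (π_trS D P (n + 1)),
      cokernel.π_desc, ← Functor.map_comp_assoc, cokernel.π_desc, π_trS]
  s_u := trS_u D P
  shortExact := tr_shortExact D P

end Trunc

end GrothLib.LeffAmp7
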